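import Mathlib.RingTheory.Smooth.Basic
import Mathlib.RingTheory.EssentialFiniteness
import Mathlib.RingTheory.Nakayama
import Mathlib.RingTheory.TensorProduct.Basic
import Mathlib.RingTheory.LocalRing.ResidueField.Basic
import Mathlib.LinearAlgebra.TensorProduct.RightExactness
import Mathlib.RingTheory.Smooth.Kaehler
import Mathlib.RingTheory.Localization.Submodule

/-!
# Functions with nonzero differential at a point with separable residue field extension
-/

set_option autoImplicit false
universe u

open TensorProduct KaehlerDifferential IsLocalRing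

namespace K257.ResSep

/-- The kernel of `L → k ⊗ L` for a surjection `O → k`. -/
theorem mem_map_of_tmul_eq_zero (O L k : Type u) [CommRing O] [CommRing L] [CommRing k] [Algebra O L] [Algebra O k]
    (hk : Function.Surjective (algebraMap O k)) (h : L) (h0 : (1 : k) ⊗ₜ[O] h = 0) :
    h ∈ (RingHom.ker (algebraMap O k)).map (algebraMap O L) := by
  have h1 : (1 : O) ⊗ₜ[O] h ∈ RingHom.ker (Algebra.TensorProduct.map (Algebra.ofId O k) (AlgHom.id O L)) := by
    rw [RingHom.mem_ker, Algebra.TensorProduct.map_tmul]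
    simpa using h0
  rw [Algebra.TensorProduct.rTensor_ker _ hk] at h1
  let ψ : O ⊗[O] L →ₐ[O] L := Algebra.TensorProduct.lift (Algebra.ofId O L) (AlgHom.id O L) (fun _ _ => Commute.all _ _)
  have h2 := Ideal.mem_map_of_mem ψ h1
  rw [Ideal.map_mapₐ] at h2
  have h3 : ψ (1 ⊗ₜ h) = h := by simp [ψ]
  rw [h3] at h2
  have h4 : ψ.comp (Algebra.TensorProduct.includeLeft : O →ₐ[O] O ⊗[O] L) = Algebra.ofId O L :=
    Subsingleton.elim _ _
  rw [h4] at h2
  exact h2

theorem exists_D_ne_zero (O L k K : Type u) [CommRing O] [IsLocalRing O] [CommRing L] [IsLocalRing L] [Field k] [Field K]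
    [Algebra O L] [Algebra O k] [Algebra L K] [Algebra k K] [Algebra O K] [IsScalarTower O L K] [IsScalarTower O k K]
    [Algebra.FormallySmooth O L] [Algebra.EssFiniteType O L] [Algebra.FormallySmooth k K]
    (hk : Function.Surjective (algebraMap O k)) (hK : Function.Surjective (algebraMap L K))
    (h₀ : L) (hm : h₀ ∈ maximalIdeal L) (hn : h₀ ∉ (maximalIdeal O).map (algebraMap O L)) :
    ∃ h ∈ maximalIdeal L, (1 : K) ⊗ₜ[L] D O L h ≠ 0 := by
  by_contra hcon
  push Not at hcon
  have hmK : ∀ x ∈ maximalIdeal L, algebraMap L K x = 0 := by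
    intro x hx
    have h1 : maximalIdeal L = RingHom.ker (algebraMap L K) :=
      (IsLocalRing.eq_maximalIdeal (RingHom.ker_isMaximal_of_surjective _ hK)).symm
    rw [h1] at hx
    exact hx
  let F := k ⊗[O] L
  let _ : Algebra F K := (Algebra.TensorProduct.lift (Algebra.ofId k K) (IsScalarTower.toAlgHom O L K)
    (fun _ _ => Commute.all _ _) : k ⊗[O] L →ₐ[k] K).toRingHom.toAlgebra
  have hFK : ∀ (a : k) (b : L), algebraMap F K (a ⊗ₜ b) = algebraMap k K a * algebraMap L K b := fun a b => by
    change Algebra.TensorProduct.lift (Algebra.ofId k K) (IsScalarTower.toAlgHom O L K) _ (a ⊗ₜ b) = _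
    simp [Algebra.ofId_apply]
  have htow : IsScalarTower k F K := .of_algebraMap_eq fun x => by
    rw [Algebra.TensorProduct.algebraMap_apply, hFK]; simp
  have hsurj : Function.Surjective (algebraMap F K) := fun x => by
    obtain ⟨y, rfl⟩ := hK x
    exact ⟨1 ⊗ₜ y, by rw [hFK]; simp⟩
  obtain ⟨l, hl⟩ := (Algebra.FormallySmooth.iff_split_injection (R := k) (P := F) (A := K) hsurj).mp inferInstance
  have hinj : Function.Injective (kerCotangentToTensor k F K) := by
    intro x y hxy
    have := congr(l $hxy)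
    rw [← LinearMap.comp_apply, ← LinearMap.comp_apply, hl] at this
    exact this
  have hLF : Function.Surjective (Algebra.TensorProduct.includeRight : L →ₐ[O] k ⊗[O] L) :=
    Algebra.TensorProduct.includeRight_surjective _ hk
  -- the kernel is generated by the maximal ideal
  have hker : ∀ x ∈ RingHom.ker (algebraMap F K), ∃ h ∈ maximalIdeal L, x = 1 ⊗ₜ h := by
    intro x hx
    obtain ⟨h, rfl⟩ := hLF x
    refine ⟨h, ?_, rfl⟩
    intro hu
    have h1 : algebraMap F K (1 ⊗ₜ h) = 0 := hx
    rw [hFK, map_one, one_mul] at h1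
    exact (hu.map (algebraMap L K)).ne_zero h1
  let _ : Algebra L F := (Algebra.TensorProduct.includeRight : L →ₐ[O] k ⊗[O] L).toRingHom.toAlgebra
  have htow2 : IsScalarTower O L F := .of_algebraMap_eq fun x => by
    change _ = (Algebra.TensorProduct.includeRight : L →ₐ[O] k ⊗[O] L) (algebraMap O L x)
    rw [AlgHom.commutes]
  have htow3 : IsScalarTower L F K := .of_algebraMap_eq fun x => by
    change _ = algebraMap F K (1 ⊗ₜ x)
    rw [hFK, map_one, one_mul]
  have hsq : RingHom.ker (algebraMap F K) ≤ RingHom.ker (algebraMap F K) ^ 2 := by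
    intro x hx
    obtain ⟨h, hh, rfl⟩ := hker x hx
    have h1 : kerCotangentToTensor k F K (Ideal.toCotangent _ ⟨1 ⊗ₜ h, hx⟩) = 0 := by
      rw [kerCotangentToTensor_toCotangent]
      let δ : Ω[L⁄O] →ₗ[L] K ⊗[F] Ω[F⁄k] :=
        ((TensorProduct.mk F K Ω[F⁄k] 1).restrictScalars L).comp (KaehlerDifferential.map O k L F)
      have h2 : (δ.liftBaseChange K) ((1 : K) ⊗ₜ[L] D O L h) = 0 := by rw [hcon h hh, map_zero]
      rw [LinearMap.liftBaseChange_tmul, one_smul] at h2
      have h3 : δ (D O L h) = 1 ⊗ₜ[F] D k F (algebraMap L F h) := by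
        change (1 : K) ⊗ₜ[F] (KaehlerDifferential.map O k L F (D O L h)) = _
        rw [KaehlerDifferential.map_D]
      rw [h3] at h2
      exact h2
    rw [← map_zero (kerCotangentToTensor k F K)] at h1
    exact (Ideal.toCotangent_eq_zero _ _).mp (hinj h1)
  have hF1 : IsLocalRing F := by
    have : Nontrivial F := (algebraMap F K).domain_nontrivial
    exact IsLocalRing.of_surjective' (Algebra.TensorProduct.includeRight : L →ₐ[O] k ⊗[O] L).toRingHom hLF
  have hF2 : IsNoetherianRing F := Algebra.EssFiniteType.isNoetherianRing k F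
  have hbot : RingHom.ker (algebraMap F K) = ⊥ := by
    refine Submodule.eq_bot_of_le_smul_of_le_jacobson_bot (RingHom.ker (algebraMap F K)) _ ?_ ?_ ?_
    · exact IsNoetherian.noetherian _
    · rw [smul_eq_mul, ← pow_two]
      exact hsq
    · rw [IsLocalRing.jacobson_eq_maximalIdeal ⊥ bot_ne_top]
      exact IsLocalRing.le_maximalIdeal (RingHom.ker_ne_top _)
  have hz : (1 : k) ⊗ₜ[O] h₀ = 0 := by
    have : (1 : k) ⊗ₜ[O] h₀ ∈ RingHom.ker (algebraMap F K) := by
      rw [RingHom.mem_ker, hFK, map_one, one_mul]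
      exact hmK h₀ hm
    rw [hbot] at this
    exact this
  apply hn
  have h1 := mem_map_of_tmul_eq_zero O L k hk h₀ hz
  refine Ideal.map_mono ?_ h1
  exact IsLocalRing.le_maximalIdeal (RingHom.ker_ne_top _)

end K257.ResSep
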