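import Groth.Agent.FlatMor.K257.SmoothDiv
import Mathlib.AlgebraicGeometry.Morphisms.Smooth
import Mathlib.AlgebraicGeometry.ResidueField

/-!
# Smooth effective Cartier divisors through a point, given a function with nonzero differential
-/

set_option autoImplicit false
universe u

open AlgebraicGeometry CategoryTheory Limits TensorProduct

namespace K257.SmoothDivSch

/-- Cancellation of a monomorphism on the target. -/
theorem smooth_of_comp_mono {X Y Z : Scheme.{u}} (f : X ⟶ Y) (j : Y ⟶ Z) [Mono j] [Smooth (f ≫ j)] : Smooth f := by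
  have h1 : IsPullback (𝟙 X) f f (𝟙 Y) := IsPullback.of_horiz_isIso ⟨by simp⟩
  have h2 : IsPullback (𝟙 Y) (𝟙 Y) j j := IsKernelPair.id_of_mono j
  have h3 := h1.paste_vert h2
  have h4 : IsPullback (𝟙 X) f (f ≫ j) j := by simpa using h3
  exact MorphismProperty.of_isPullback h4 ‹_›

/-- The section ring map of a morphism smooth near an affine open is smooth. -/
theorem appLE_smooth {X S : Scheme.{u}} (f : X ⟶ S) (W : X.Opens) (hW : Smooth (W.ι ≫ f)) (U : X.Opens)
    (hU : IsAffineOpen U) (hUW : U ≤ W) (V : S.Opens) (hV : IsAffineOpen V) (e : U ≤ f ⁻¹ᵁ V) :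
    (f.appLE V U e).hom.Smooth := by
  have h1 : Spec.map (f.appLE V U e) ≫ hV.fromSpec = hU.fromSpec ≫ f := IsAffineOpen.SpecMap_appLE_fromSpec f hV hU e
  have h2 : Smooth (hU.fromSpec ≫ f) := by
    have h3 : Set.range hU.fromSpec ⊆ Set.range W.ι := by
      rw [hU.range_fromSpec, Scheme.Opens.range_ι]
      exact hUW
    have h4 : hU.fromSpec = IsOpenImmersion.lift W.ι hU.fromSpec h3 ≫ W.ι := (IsOpenImmersion.lift_fac _ _ _).symm
    have h5 : IsOpenImmersion (IsOpenImmersion.lift W.ι hU.fromSpec h3) := by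
      have : IsOpenImmersion (IsOpenImmersion.lift W.ι hU.fromSpec h3 ≫ W.ι) := by rw [← h4]; infer_instance
      exact IsOpenImmersion.of_comp _ W.ι
    rw [h4, Category.assoc]
    infer_instance
  rw [← h1] at h2
  have h3 : Smooth (Spec.map (f.appLE V U e)) := smooth_of_comp_mono _ hV.fromSpec
  rwa [HasRingHomProperty.Spec_iff (P := @Smooth)] at h3

theorem germ_appLE {X S : Scheme.{u}} (f : X ⟶ S) (x : X) (U : X.Opens) (V : S.Opens) (e : U ≤ f ⁻¹ᵁ V) (hx : x ∈ U)
    (a : Γ(S, V)) :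
    X.presheaf.germ U x hx (f.appLE V U e a) = f.stalkMap x (S.presheaf.germ V (f x) (e hx) a) := by
  have h1 := Scheme.Hom.germ_stalkMap_apply f V x (e hx) a
  rw [h1, Scheme.Hom.appLE, CommRingCat.comp_apply, TopCat.Presheaf.germ_res_apply]

theorem exists_div {X S : Scheme.{u}} (f : X ⟶ S) (x : X) (U₀ : X.Opens) (hU₀ : IsAffineOpen U₀) (V : S.Opens)
    (hV : IsAffineOpen V) (e : U₀ ≤ f ⁻¹ᵁ V) (hx : x ∈ U₀) (hsm : (f.appLE V U₀ e).hom.Smooth) (h₀ : Γ(X, U₀))
    (hd : letI := (f.stalkMap x).hom.toAlgebra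
      (1 : IsLocalRing.ResidueField ↑(X.presheaf.stalk x)) ⊗ₜ[↑(X.presheaf.stalk x)]
          (KaehlerDifferential.D ↑(S.presheaf.stalk (f x)) ↑(X.presheaf.stalk x)
            (X.presheaf.germ U₀ x hx h₀)) ≠ 0) :
    ∃ (U : X.Opens) (hU : IsAffineOpen U) (_ : x ∈ U) (i : U ≤ U₀),
      (X.presheaf.map (homOfLE i).op h₀) ∈ nonZeroDivisors Γ(X, U) ∧
      Smooth (Spec.map (CommRingCat.ofHom (Ideal.Quotient.mk (Ideal.span {X.presheaf.map (homOfLE i).op h₀}))) ≫
        hU.fromSpec ≫ f) := by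
  let _ := (f.appLE V U₀ e).hom.toAlgebra
  let _ := X.presheaf.algebra_section_stalk ⟨x, hx⟩
  have hloc := hU₀.isLocalization_stalk ⟨x, hx⟩
  let _ : Algebra Γ(S, V) (X.presheaf.stalk x) :=
    ((algebraMap Γ(X, U₀) (X.presheaf.stalk x)).comp (algebraMap Γ(S, V) Γ(X, U₀))).toAlgebra
  have hst : IsScalarTower Γ(S, V) Γ(X, U₀) (X.presheaf.stalk x) := .of_algebraMap_eq' rfl
  have hsm' : Algebra.Smooth Γ(S, V) Γ(X, U₀) := hsm
  have hd' : (1 : IsLocalRing.ResidueField ↑(X.presheaf.stalk x)) ⊗ₜ[↑(X.presheaf.stalk x)]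
          (KaehlerDifferential.D Γ(S, V) ↑(X.presheaf.stalk x)
            (algebraMap Γ(X, U₀) (X.presheaf.stalk x) h₀)) ≠ 0 := by
    intro h0
    apply hd
    let _ := (f.stalkMap x).hom.toAlgebra
    let _ := S.presheaf.algebra_section_stalk ⟨f x, e hx⟩
    have hst' : IsScalarTower Γ(S, V) (S.presheaf.stalk (f x)) (X.presheaf.stalk x) := by
      refine .of_algebraMap_eq fun a => ?_
      change X.presheaf.germ U₀ x hx (f.appLE V U₀ e a) = f.stalkMap x (S.presheaf.germ V (f x) (e hx) a)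
      exact germ_appLE f x U₀ V e hx a
    have h1 := congrArg (LinearMap.lTensor (IsLocalRing.ResidueField ↑(X.presheaf.stalk x))
      (KaehlerDifferential.map Γ(S, V) (S.presheaf.stalk (f x)) (X.presheaf.stalk x) (X.presheaf.stalk x))) h0
    rw [map_zero, LinearMap.lTensor_tmul, KaehlerDifferential.map_D] at h1
    exact h1
  obtain ⟨m, y, g, hg, H⟩ := K257.SmoothDiv.exists_etale Γ(S, V) Γ(X, U₀) (X.presheaf.stalk x)
    (hU₀.primeIdealOf ⟨x, hx⟩).asIdeal h₀ hd'
  have hxg : x ∈ X.basicOpen g := by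
    rw [X.mem_basicOpen g x hx]
    exact IsLocalization.map_units (X.presheaf.stalk x) (⟨g, hg⟩ : (hU₀.primeIdealOf ⟨x, hx⟩).asIdeal.primeCompl)
  have hU : IsAffineOpen (X.basicOpen g) := hU₀.basicOpen g
  have i : X.basicOpen g ≤ U₀ := X.basicOpen_le g
  refine ⟨X.basicOpen g, hU, hxg, i, ?_⟩
  let _ : Algebra Γ(X, U₀) Γ(X, X.basicOpen g) := (X.presheaf.map (homOfLE i).op).hom.toAlgebra
  let _ : Algebra Γ(S, V) Γ(X, X.basicOpen g) :=
    ((algebraMap Γ(X, U₀) Γ(X, X.basicOpen g)).comp (algebraMap Γ(S, V) Γ(X, U₀))).toAlgebra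
  have hst' : IsScalarTower Γ(S, V) Γ(X, U₀) Γ(X, X.basicOpen g) := .of_algebraMap_eq' rfl
  have hloc' : IsLocalization.Away g Γ(X, X.basicOpen g) := hU₀.isLocalization_basicOpen g
  have H' := H Γ(X, X.basicOpen g)
  have h1 := K257.SmoothDiv.mem_nonZeroDivisors_of_etale _ _ m _ H'
  have h2 := K257.SmoothDiv.smooth_quotient_of_etale _ _ m _ H'
  refine ⟨h1, ?_⟩
  have h3 : Spec.map (f.appLE V (X.basicOpen g) (i.trans e)) ≫ hV.fromSpec = hU.fromSpec ≫ f :=
    IsAffineOpen.SpecMap_appLE_fromSpec f hV hU (i.trans e)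
  rw [← h3, ← Category.assoc, ← Spec.map_comp]
  have h4 : Smooth (Spec.map (f.appLE V (X.basicOpen g) (i.trans e) ≫
      CommRingCat.ofHom (Ideal.Quotient.mk (Ideal.span {X.presheaf.map (homOfLE i).op h₀})))) := by
    rw [HasRingHomProperty.Spec_iff (P := @Smooth)]
    have h5 := RingHom.smooth_algebraMap.mpr h2
    have h6 : (f.appLE V (X.basicOpen g) (i.trans e) ≫
      CommRingCat.ofHom (Ideal.Quotient.mk (Ideal.span {X.presheaf.map (homOfLE i).op h₀}))).hom =
        algebraMap Γ(S, V) (Γ(X, X.basicOpen g) ⧸ Ideal.span {algebraMap Γ(X, U₀) Γ(X, X.basicOpen g)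
          ((none : Option (Fin m)).elim h₀ y)}) := by
      apply RingHom.ext
      intro a
      change Ideal.Quotient.mk _ (f.appLE V (X.basicOpen g) (i.trans e) a) =
        Ideal.Quotient.mk _ (X.presheaf.map (homOfLE i).op (f.appLE V U₀ e a))
      rw [← Scheme.Hom.appLE_map f e (homOfLE i).op]
      rfl
    rw [h6]
    exact h5
  infer_instance

end K257.SmoothDivSch
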