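import Groth.Prelude.Def_MoreMor
import Groth.Agent.Proet.EtaleLiftLoc
import Mathlib.AlgebraicGeometry.Fiber
import Mathlib.AlgebraicGeometry.Morphisms.Etale

/-!
# Étale neighbourhoods of a point in a fibre lift to the total space
-/

set_option autoImplicit false
universe u

open AlgebraicGeometry CategoryTheory Limits TensorProduct

namespace K257.EtFibre

theorem isPullback_fiberMap {X Y S : Scheme.{u}} (f : X ⟶ Y) (g : Y ⟶ S) (s : S) :
    IsPullback ((f ≫ g).fiberι s) (MoreMor.fiberMap f g s) f (g.fiberι s) := by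
  have h1 : MoreMor.fiberMap f g s ≫ g.fiberι s = (f ≫ g).fiberι s ≫ f := pullback.lift_fst _ _ _
  have h2 : MoreMor.fiberMap f g s ≫ g.fiberToSpecResidueField s = (f ≫ g).fiberToSpecResidueField s :=
    pullback.lift_snd _ _ _
  have hout : IsPullback ((f ≫ g).fiberToSpecResidueField s) ((f ≫ g).fiberι s) (S.fromSpecResidueField s) (f ≫ g) :=
    (IsPullback.of_hasPullback (f ≫ g) (S.fromSpecResidueField s)).flip
  have hright : IsPullback (g.fiberToSpecResidueField s) (g.fiberι s) (S.fromSpecResidueField s) g :=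
    (IsPullback.of_hasPullback g (S.fromSpecResidueField s)).flip
  rw [← h2] at hout
  exact (IsPullback.of_right hout h1 hright).flip

/-- Elements of the residue field at a point of an affine open are fractions of functions. -/
theorem evaluation_frac {S : Scheme.{u}} {U : S.Opens} (hU : IsAffineOpen U) (s : S) (hs : s ∈ U)
    (x : S.residueField s) :
    ∃ b t : Γ(S, U), S.evaluation U s hs t ≠ 0 ∧ S.evaluation U s hs t * x = S.evaluation U s hs b := by
  obtain ⟨y, rfl⟩ := S.residue_surjective s x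
  let _ : Algebra Γ(S, U) (S.presheaf.stalk s) := TopCat.Presheaf.algebra_section_stalk S.presheaf ⟨s, hs⟩
  have hloc : IsLocalization.AtPrime (S.presheaf.stalk s) (hU.primeIdealOf ⟨s, hs⟩).asIdeal :=
    hU.isLocalization_stalk ⟨s, hs⟩
  obtain ⟨⟨b, t⟩, hbt⟩ := IsLocalization.surj (hU.primeIdealOf ⟨s, hs⟩).asIdeal.primeCompl
    (S := S.presheaf.stalk s) y
  have hbt' : y * (S.presheaf.germ U s hs).hom t.1 = (S.presheaf.germ U s hs).hom b := hbt
  refine ⟨b, t.1, ?_, ?_⟩
  · have hu : IsUnit ((S.presheaf.germ U s hs).hom t.1) :=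
      IsLocalization.map_units (S.presheaf.stalk s) t
    intro h0
    have h1 : IsUnit ((S.residue s).hom ((S.presheaf.germ U s hs).hom t.1)) := hu.map _
    exact h1.ne_zero h0
  · change (S.residue s).hom ((S.presheaf.germ U s hs).hom t.1) * (S.residue s).hom y =
      (S.residue s).hom ((S.presheaf.germ U s hs).hom b)
    rw [← hbt', map_mul, mul_comm]

/-- Elements of the fibre ring come from the total ring up to a unit coming from the base. -/
theorem exists_unit_mul (A B K : Type u) [CommRing A] [CommRing B] [Field K] [Algebra A B] [Algebra A K]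
    (h : ∀ y : K, ∃ b t : A, algebraMap A K t ≠ 0 ∧ algebraMap A K t * y = algebraMap A K b) (z : K ⊗[A] B) :
    ∃ t : A, algebraMap A K t ≠ 0 ∧ ∃ b : B, (algebraMap A K t) ⊗ₜ[A] (1 : B) * z = 1 ⊗ₜ b := by
  induction z with
  | zero => exact ⟨1, by simp, 0, by simp⟩
  | add x y hx hy =>
    obtain ⟨t, ht, b, hb⟩ := hx
    obtain ⟨t', ht', b', hb'⟩ := hy
    refine ⟨t * t', by rw [map_mul]; exact mul_ne_zero ht ht', algebraMap A B t' * b + algebraMap A B t * b', ?_⟩
    have h1 : (algebraMap A K (t * t')) ⊗ₜ[A] (1 : B) = (algebraMap A K t) ⊗ₜ[A] (1 : B) * (algebraMap A K t') ⊗ₜ[A] (1 : B) := by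
      rw [Algebra.TensorProduct.tmul_mul_tmul, one_mul, map_mul]
    have h2 : ∀ (a : A) (c : B), (1 : K) ⊗ₜ[A] (algebraMap A B a * c) = (algebraMap A K a) ⊗ₜ[A] (1 : B) * (1 : K) ⊗ₜ[A] c := by
      intro a c
      rw [Algebra.TensorProduct.tmul_mul_tmul, mul_one, one_mul, ← Algebra.smul_def, TensorProduct.tmul_smul,
        TensorProduct.smul_tmul', Algebra.smul_def, mul_one]
    rw [TensorProduct.tmul_add, h2, h2, ← hb, ← hb', h1]
    ring
  | tmul y b =>
    obtain ⟨a, t, ht, hat⟩ := h y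
    refine ⟨t, ht, algebraMap A B a * b, ?_⟩
    rw [Algebra.TensorProduct.tmul_mul_tmul, one_mul, hat, ← Algebra.smul_def, TensorProduct.tmul_smul,
        TensorProduct.smul_tmul', Algebra.smul_def, mul_one]

theorem exists_unit_mul_finset (A B K : Type u) [CommRing A] [CommRing B] [Field K] [Algebra A B] [Algebra A K]
    (h : ∀ y : K, ∃ b t : A, algebraMap A K t ≠ 0 ∧ algebraMap A K t * y = algebraMap A K b) (s : Finset (K ⊗[A] B)) :
    ∃ u : K ⊗[A] B, IsUnit u ∧ ∀ z ∈ s, u * z ∈ Set.range (Algebra.TensorProduct.includeRight : B →ₐ[A] K ⊗[A] B) := by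
  classical
  suffices H : ∃ t : A, algebraMap A K t ≠ 0 ∧ ∀ z ∈ s, ∃ b : B, (algebraMap A K t) ⊗ₜ[A] (1 : B) * z = 1 ⊗ₜ b by
    obtain ⟨t, ht, H⟩ := H
    refine ⟨(algebraMap A K t) ⊗ₜ[A] (1 : B), ?_, fun z hz => ?_⟩
    · exact (IsUnit.mk0 _ ht).map (Algebra.TensorProduct.includeLeft : K →ₐ[A] K ⊗[A] B)
    · obtain ⟨b, hb⟩ := H z hz
      exact ⟨b, hb.symm⟩
  induction s using Finset.induction_on with
  | empty => exact ⟨1, by simp, by simp⟩
  | insert z s _ ih =>
    obtain ⟨t, ht, H⟩ := ih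
    obtain ⟨t', ht', b', hb'⟩ := exists_unit_mul A B K h z
    refine ⟨t * t', by rw [map_mul]; exact mul_ne_zero ht ht', fun w hw => ?_⟩
    have h1 : (algebraMap A K (t * t')) ⊗ₜ[A] (1 : B) = (algebraMap A K t) ⊗ₜ[A] (1 : B) * (algebraMap A K t') ⊗ₜ[A] (1 : B) := by
      rw [Algebra.TensorProduct.tmul_mul_tmul, one_mul, map_mul]
    have h2 : ∀ (a : A) (c : B), (1 : K) ⊗ₜ[A] (algebraMap A B a * c) = (algebraMap A K a) ⊗ₜ[A] (1 : B) * (1 : K) ⊗ₜ[A] c := by
      intro a c
      rw [Algebra.TensorProduct.tmul_mul_tmul, mul_one, one_mul, ← Algebra.smul_def, TensorProduct.tmul_smul,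
        TensorProduct.smul_tmul', Algebra.smul_def, mul_one]
    rcases Finset.mem_insert.mp hw with rfl | hw
    · exact ⟨algebraMap A B t * b', by rw [h2, ← hb', h1, mul_assoc]⟩
    · obtain ⟨b, hb⟩ := H w hw
      exact ⟨algebraMap A B t' * b, by rw [h2, ← hb, h1]; ring⟩

theorem isPullback_comp_mono {P X Y W Z : Scheme.{u}} {fst : P ⟶ X} {snd : P ⟶ Y} {f : X ⟶ W} {g : Y ⟶ W}
    (h : IsPullback fst snd f g) (i : W ⟶ Z) [Mono i] : IsPullback fst snd (f ≫ i) (g ≫ i) :=
  ⟨⟨by rw [← Category.assoc, h.w, Category.assoc]⟩, ⟨PullbackCone.isLimitOfCompMono f g i _ h.isLimit⟩⟩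

/-- Charts of a fibre. -/
theorem exists_chart {X S : Scheme.{u}} (f : X ⟶ S) (x : X) :
    ∃ (B R : CommRingCat.{u}) (j : Spec B ⟶ X) (k : Spec R ⟶ f.fiber (f x)) (φ : B ⟶ R) (_ : IsOpenImmersion j)
      (_ : IsOpenImmersion k), IsPullback k (Spec.map φ) (f.fiberι (f x)) j ∧ f.asFiber x ∈ Set.range k ∧
        (∀ s : Finset R, ∃ u : R, IsUnit u ∧ ∀ z ∈ s, u * z ∈ Set.range φ) := by
  obtain ⟨V, hV, hxV, -⟩ := TopologicalSpace.Opens.isBasis_iff_nbhd.mp S.isBasis_affineOpens
    (show f x ∈ (⊤ : S.Opens) from trivial)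
  replace hV : IsAffineOpen V := hV
  obtain ⟨U, hU, hxU, e⟩ := TopologicalSpace.Opens.isBasis_iff_nbhd.mp X.isBasis_affineOpens
    (show x ∈ f ⁻¹ᵁ V from hxV)
  replace hU : IsAffineOpen U := hU
  let _ := (f.appLE V U e).hom.toAlgebra
  let _ := (S.evaluation V (f x) hxV).hom.toAlgebra
  let A := Γ(S, V)
  let B := Γ(X, U)
  let K := S.residueField (f x)
  have hj : Spec.map (f.appLE V U e) ≫ hV.fromSpec = hU.fromSpec ≫ f := IsAffineOpen.SpecMap_appLE_fromSpec f hV hU e
  have hk : Spec.map (S.evaluation V (f x) hxV) ≫ hV.fromSpec = S.fromSpecResidueField (f x) := by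
    have h0 : Spec.map (S.presheaf.germ V (f x) hxV) ≫ hV.fromSpec = S.fromSpecStalk (f x) :=
      hV.fromSpecStalk_eq_fromSpecStalk hxV
    rw [← Scheme.germ_residue, Spec.map_comp, Category.assoc, h0]
    rfl
  have h1 := isPullback_comp_mono
    (isPullback_SpecMap_of_isPushout _ _ _ _ (CommRingCat.isPushout_tensorProduct A K B)) hV.fromSpec
  have h2 : IsPullback (Spec.map (CommRingCat.ofHom (Algebra.TensorProduct.includeLeft (R := A) (S := A) (A := K) (B := B)).toRingHom))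
      (Spec.map (CommRingCat.ofHom (Algebra.TensorProduct.includeRight (R := A) (A := K) (B := B)).toRingHom))
      (S.fromSpecResidueField (f x)) (hU.fromSpec ≫ f) := by
    rw [← hj, ← hk]
    exact h1
  have h3 : IsPullback (f.fiberToSpecResidueField (f x)) (f.fiberι (f x)) (S.fromSpecResidueField (f x)) f :=
    (IsPullback.of_hasPullback f (S.fromSpecResidueField (f x))).flip
  let k : Spec (CommRingCat.of (K ⊗[A] B)) ⟶ f.fiber (f x) := h3.lift _ _ (h2.w.trans (Category.assoc _ _ _).symm)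
  have hk1 : k ≫ f.fiberToSpecResidueField (f x) = _ := h3.lift_fst _ _ _
  have hk2 : k ≫ f.fiberι (f x) = _ := h3.lift_snd _ _ _
  have h4 : IsPullback k
      (Spec.map (CommRingCat.ofHom (Algebra.TensorProduct.includeRight (R := A) (A := K) (B := B)).toRingHom))
      (f.fiberι (f x)) hU.fromSpec := by
    refine IsPullback.of_right ?_ hk2 h3
    rw [hk1]
    exact h2
  refine ⟨B, CommRingCat.of (K ⊗[A] B), hU.fromSpec, k,
    CommRingCat.ofHom (Algebra.TensorProduct.includeRight (R := A) (A := K) (B := B)).toRingHom, inferInstance,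
    MorphismProperty.of_isPullback h4.flip inferInstance, h4, ?_, ?_⟩
  · obtain ⟨y, hy⟩ : x ∈ Set.range hU.fromSpec := by rw [hU.range_fromSpec]; exact hxU
    obtain ⟨z, hz, -⟩ := Scheme.exists_preimage_of_isPullback h4 (f.asFiber x) y
      ((f.fiberι_asFiber x).trans hy.symm)
    exact ⟨z, hz⟩
  · exact exists_unit_mul_finset A B K (fun y => evaluation_frac hV (f x) hxV y)

/-- An étale neighbourhood of a point in a fibre comes, after restriction to an open, from an étale neighbourhood. -/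
theorem exists_nbhd {X S V : Scheme.{u}} (f : X ⟶ S) (x : X)
    (g : V ⟶ f.fiber (f x)) [Etale g] (v : V) (hv : g v = f.asFiber x) :
    ∃ (U : Scheme.{u}) (p : U ⟶ X) (u : U) (m : (p ≫ f).fiber (f x) ⟶ V) (u' : ↑((p ≫ f).fiber (f x))),
      Etale p ∧ p u = x ∧ IsOpenImmersion m ∧ m ≫ g = MoreMor.fiberMap p f (f x) ∧
      (p ≫ f).fiberι (f x) u' = u ∧ m u' = v := by
  obtain ⟨B, R, j, k, φ, _, _, hjk, hxk, hφ⟩ := exists_chart f x
  -- an affine neighbourhood of `v` mapping into the chart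
  obtain ⟨V₀, hV₀, hvV₀, hle⟩ := TopologicalSpace.Opens.isBasis_iff_nbhd.mp V.isBasis_affineOpens
    (show v ∈ g ⁻¹ᵁ k.opensRange from by
      change g v ∈ Set.range k
      rw [hv]; exact hxk)
  have hV₀' : IsAffineOpen V₀ := hV₀
  have hr : Set.range (hV₀'.fromSpec ≫ g) ⊆ Set.range k := by
    rintro _ ⟨y, rfl⟩
    rw [Scheme.Hom.comp_apply]
    have : hV₀'.fromSpec y ∈ V₀ := by
      have : hV₀'.fromSpec y ∈ Set.range hV₀'.fromSpec := ⟨y, rfl⟩
      rwa [hV₀'.range_fromSpec] at this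
    exact hle this
  let c : Spec Γ(V, V₀) ⟶ Spec R := IsOpenImmersion.lift k (hV₀'.fromSpec ≫ g) hr
  have hc : c ≫ k = hV₀'.fromSpec ≫ g := IsOpenImmersion.lift_fac _ _ _
  have hcet : Etale c := by
    have : Etale (c ≫ k) := by rw [hc]; infer_instance
    exact Etale.of_comp c k
  obtain ⟨γ, hγ⟩ := Spec.map_surjective c
  rw [← hγ] at hcet
  have hγet : γ.hom.Etale := by rwa [HasRingHomProperty.Spec_iff (P := @Etale)] at hcet
  let _ := γ.hom.toAlgebra
  let _ := φ.hom.toAlgebra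
  have _ : Algebra.Etale R Γ(V, V₀) := hγet
  obtain ⟨B', _, _, hB', ⟨ε⟩⟩ := Groth.Agent.Proet.EtaleLiftLoc.exists_etale_lift B R Γ(V, V₀) hφ
  have hEtB : Etale (Spec.map (CommRingCat.ofHom (algebraMap B B'))) := by
    rw [HasRingHomProperty.Spec_iff (P := @Etale)]
    exact RingHom.etale_algebraMap.mpr hB'
  let p : Spec (CommRingCat.of B') ⟶ X := Spec.map (CommRingCat.ofHom (algebraMap B B')) ≫ j
  -- the base change of `p` to the fibre is `Spec Γ(V, V₀)`
  let q : B' →+* Γ(V, V₀) := ε.toRingHom.comp (Algebra.TensorProduct.includeRight (R := B) (A := R) (B := B')).toRingHom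
  have hpush : IsPushout φ (CommRingCat.ofHom (algebraMap B B')) γ (CommRingCat.ofHom q) := by
    refine (CommRingCat.isPushout_tensorProduct B R B').of_iso (Iso.refl _) (Iso.refl _) (Iso.refl _)
      (RingEquiv.toCommRingCatIso ε.toRingEquiv) ?_ ?_ ?_ ?_
    · simp; rfl
    · simp
    · ext a
      exact ε.commutes a
    · ext a
      rfl
  have h5 := isPullback_SpecMap_of_isPushout _ _ _ _ hpush
  have h6 : IsPullback (Spec.map (CommRingCat.ofHom q)) (Spec.map γ ≫ k) p (f.fiberι (f x)) :=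
    h5.flip.paste_vert hjk.flip
  have h7 := isPullback_fiberMap p f (f x)
  let i := h7.isoIsPullback _ _ h6
  have hi : i.hom ≫ Spec.map γ ≫ k = MoreMor.fiberMap p f (f x) := h7.isoIsPullback_hom_snd _ _ h6
  have hgk : Spec.map γ ≫ k = hV₀'.fromSpec ≫ g := by rw [hγ, hc]
  have hm : (i.hom ≫ hV₀'.fromSpec) ≫ g = MoreMor.fiberMap p f (f x) :=
    (Category.assoc _ _ _).trans ((congrArg (i.hom ≫ ·) hgk.symm).trans hi)
  obtain ⟨y, hy⟩ : v ∈ Set.range hV₀'.fromSpec := by rw [hV₀'.range_fromSpec]; exact hvV₀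
  have hmv : (i.hom ≫ hV₀'.fromSpec) (i.inv y) = v := by
    rw [← Scheme.Hom.comp_apply, Iso.inv_hom_id_assoc, hy]
  refine ⟨Spec (CommRingCat.of B'), p, (p ≫ f).fiberι (f x) (i.inv y), i.hom ≫ hV₀'.fromSpec, i.inv y, ?_, ?_,
    inferInstance, hm, rfl, hmv⟩
  · infer_instance
  · have h8 : p ((p ≫ f).fiberι (f x) (i.inv y)) = f.fiberι (f x) (MoreMor.fiberMap p f (f x) (i.inv y)) := by
      have h9 := congrArg (fun φ => φ (i.inv y)) h7.w
      exact h9
    rw [h8, ← hm, Scheme.Hom.comp_apply, hmv, hv, f.fiberι_asFiber]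

end K257.EtFibre
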