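import Groth.Agent.FlatMor.K257.FlatPt
import Groth.Agent.S1229
import Groth.Agent.Ega1.FTStalkFin
import Groth.Agent.Ega1.StalkFP
import Groth.Agent.Proet.SHEquiv
import Groth.Agent.Flat2G.FlatLocus
import Groth.Agent.FormalA.PullbackQC
import Mathlib.AlgebraicGeometry.Morphisms.FinitePresentation

/-!
# The ideal of the henselian base corepresenting flatness at a point of the closed fibre
-/

set_option autoImplicit false
set_option linter.style.haveILetI false
universe u

open CategoryTheory CategoryTheory.Limits AlgebraicGeometry TensorProduct IsLocalRing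

namespace K257.FlatHens

theorem essFP_of_isLocalization {A C A₀ C₀ : Type u} [CommRing A] [CommRing C] [CommRing A₀] [CommRing C₀]
    [Algebra A C] [Algebra.FinitePresentation A C] [Algebra A A₀] [Algebra C C₀] [Algebra A₀ C₀] [Algebra A C₀]
    [IsScalarTower A A₀ C₀] [IsScalarTower A C C₀] (p : Ideal A) [p.IsPrime] (t : Ideal C) [t.IsPrime]
    (hpt : t.comap (algebraMap A C) = p) [IsLocalization.AtPrime A₀ p] [IsLocalization.AtPrime C₀ t] :
    FlatCA.EssFinitePresentation A₀ C₀ := by
  let S₀ := A₀ ⊗[A] C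
  let _ : Algebra C S₀ := Algebra.TensorProduct.rightAlgebra
  let φ : S₀ →ₐ[A₀] C₀ := Algebra.TensorProduct.lift (Algebra.ofId A₀ C₀) (IsScalarTower.toAlgHom A C C₀)
    (fun _ _ => Commute.all _ _)
  let _ : Algebra S₀ C₀ := φ.toRingHom.toAlgebra
  have : IsScalarTower A₀ S₀ C₀ := IsScalarTower.of_algebraMap_eq (fun x => (φ.commutes x).symm)
  have : IsScalarTower C S₀ C₀ := IsScalarTower.of_algebraMap_eq (fun x => by
    have h1 : φ ((1 : A₀) ⊗ₜ[A] x) = algebraMap C C₀ x := by
      rw [Algebra.TensorProduct.lift_tmul, map_one, one_mul]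
      rfl
    exact h1.symm)
  have hle : Algebra.algebraMapSubmonoid C p.primeCompl ≤ t.primeCompl := by
    rintro _ ⟨x, hx, rfl⟩ h
    apply hx
    rw [← hpt]
    exact h
  have hl : IsLocalization (Algebra.algebraMapSubmonoid C p.primeCompl) S₀ := inferInstance
  refine ⟨S₀, inferInstance, inferInstance, inferInstance, inferInstance,
    t.primeCompl.map (algebraMap C S₀), Algebra.FinitePresentation.baseChange A₀, ?_⟩
  exact IsLocalization.isLocalization_of_submonoid_le S₀ C₀
    (Algebra.algebraMapSubmonoid C p.primeCompl) t.primeCompl hle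

variable {X Y : Scheme.{u}}

theorem essFP_stalkMap (f : X ⟶ Y) [LocallyOfFinitePresentation f] (x : X) :
    letI := Groth.Agent.Fdesc.PullbackStalk.stalkAlg f x
    FlatCA.EssFinitePresentation (Y.presheaf.stalk (f.base x)) (X.presheaf.stalk x) := by
  letI := Groth.Agent.Fdesc.PullbackStalk.stalkAlg f x
  obtain ⟨V, hV, hxV, -⟩ := exists_isAffineOpen_mem_and_subset (x := f x) (U := ⊤) trivial
  obtain ⟨U, hU, hxU, hUV⟩ := exists_isAffineOpen_mem_and_subset (x := x) (U := f ⁻¹ᵁ V) hxV
  have e : U ≤ f ⁻¹ᵁ V := hUV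
  let : Algebra Γ(Y, V) Γ(X, U) := (f.appLE V U e).hom.toAlgebra
  have : Algebra.FinitePresentation Γ(Y, V) Γ(X, U) :=
    LocallyOfFinitePresentation.finitePresentation_appLE f hV hU e
  let : Algebra Γ(Y, V) (Y.presheaf.stalk (f.base x)) :=
    TopCat.Presheaf.algebra_section_stalk Y.presheaf ⟨f x, hxV⟩
  let : Algebra Γ(X, U) (X.presheaf.stalk x) :=
    TopCat.Presheaf.algebra_section_stalk X.presheaf ⟨x, hxU⟩
  have l1 : IsLocalization.AtPrime (X.presheaf.stalk x) (hU.primeIdealOf ⟨x, hxU⟩).asIdeal :=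
    hU.isLocalization_stalk ⟨x, hxU⟩
  have l2 : IsLocalization.AtPrime (Y.presheaf.stalk (f x)) (hV.primeIdealOf ⟨f x, hxV⟩).asIdeal :=
    hV.isLocalization_stalk ⟨f x, hxV⟩
  let : Algebra Γ(Y, V) (X.presheaf.stalk x) :=
    ((algebraMap Γ(X, U) (X.presheaf.stalk x)).comp (algebraMap Γ(Y, V) Γ(X, U))).toAlgebra
  have t1 : IsScalarTower Γ(Y, V) Γ(X, U) (X.presheaf.stalk x) := IsScalarTower.of_algebraMap_eq' rfl
  have t2 : IsScalarTower Γ(Y, V) (Y.presheaf.stalk (f.base x)) (X.presheaf.stalk x) :=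
    IsScalarTower.of_algebraMap_eq fun r => by
      have h1 : (f.stalkMap x).hom (Y.presheaf.germ V (f x) hxV r) =
          X.presheaf.germ U x hxU (f.appLE V U e r) := by
        have := Scheme.Hom.germ_stalkMap_apply f V x hxV r
        rw [this, Scheme.Hom.appLE]
        exact (TopCat.Presheaf.germ_res_apply _ _ _ _ _).symm
      exact h1.symm
  refine essFP_of_isLocalization (A := Γ(Y, V)) (C := Γ(X, U)) (hV.primeIdealOf ⟨f x, hxV⟩).asIdeal
    (hU.primeIdealOf ⟨x, hxU⟩).asIdeal ?_
  ext r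
  have h1 := IsLocalization.AtPrime.to_map_mem_maximal_iff (Y.presheaf.stalk (f x))
    (hV.primeIdealOf ⟨f x, hxV⟩).asIdeal r
  have h2 := IsLocalization.AtPrime.to_map_mem_maximal_iff (X.presheaf.stalk x)
    (hU.primeIdealOf ⟨x, hxU⟩).asIdeal (algebraMap Γ(Y, V) Γ(X, U) r)
  rw [Ideal.mem_comap, ← h1, ← h2, ← IsScalarTower.algebraMap_apply,
    IsScalarTower.algebraMap_apply Γ(Y, V) (Y.presheaf.stalk (f x)) (X.presheaf.stalk x),
    mem_maximalIdeal, mem_maximalIdeal, mem_nonunits_iff, mem_nonunits_iff, not_iff_not]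
  exact isUnit_map_iff (f.stalkMap x).hom _

theorem exists_baseChange {B A' : Type u} [CommRing B] [CommRing A'] (B' M : Type u) [CommRing B'] [Algebra B B']
    [Algebra A' B'] [AddCommGroup M] [Module B M] :
    ∃ (M' : Type u) (_ : AddCommGroup M') (_ : Module B' M') (_ : Module B M') (_ : IsScalarTower B B' M')
      (_ : Module A' M') (_ : IsScalarTower A' B' M') (f' : M →ₗ[B] M'), IsBaseChange B' f' := by
  refine ⟨B' ⊗[B] M, inferInstance, TensorProduct.leftModule, TensorProduct.leftModule, ?_,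
    TensorProduct.leftModule, ?_, TensorProduct.mk B B' M 1, TensorProduct.isBaseChange B M B'⟩
  · exact TensorProduct.isScalarTower_left
  · exact TensorProduct.isScalarTower_left

open Groth.Agent.Fdesc.PullbackStalk K257.FlatPt in
/-- The ideal of the henselian local ring of the base corepresenting flatness at a point. -/
theorem exists_ideal_stalk (f : X ⟶ Y) [LocallyOfFiniteType f] (F : X.Modules) (hqc : Coh.IsQCoh F)
    (hF : CohB1.IsFT F) (x : X) [HenselianLocalRing (Y.presheaf.stalk (f.base x))] :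
    ∃ I : Ideal (Y.presheaf.stalk (f.base x)),
      (∀ {P Y' : Scheme.{u}} {p : P ⟶ X} {q : P ⟶ Y'} {g : Y' ⟶ Y} (_ : IsPullback p q f g) (y' : Y')
        (h : g.base y' = f.base x),
        (∀ z : P, p.base z = x → q.base z = y' →
          FlatMod.IsFlatOverAt q ((Scheme.Modules.pullback p).obj F) z) ↔ I.map (sm g h).hom = ⊥) ∧
      (LocallyOfFinitePresentation f → CohB1.IsFP F → I.FG) := by
  letI := stalkAlg f x
  letI := FlatMod.moduleStalkOver f F x
  haveI := isScalarTower f F x
  haveI : IsLocalHom (algebraMap (Y.presheaf.stalk (f.base x)) (X.presheaf.stalk x)) :=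
    inferInstanceAs (IsLocalHom (f.stalkMap x).hom)
  haveI : Algebra.EssFiniteType (Y.presheaf.stalk (f.base x)) (X.presheaf.stalk x) :=
    LocallyOfFiniteType.stalkMap f x
  haveI : Module.Finite (X.presheaf.stalk x) (F.presheaf.stalk x) :=
    Groth.Agent.Ega1.FTStalkFin.stalk_finite F hF x
  obtain ⟨I, hI, hfg⟩ := Groth.Agent.S1229.result (A := Y.presheaf.stalk (f.base x))
    (B := X.presheaf.stalk x) (F.presheaf.stalk x)
  refine ⟨I, ?_, ?_⟩
  · intro P Y' p q g H y' h
    letI : Algebra (Y.presheaf.stalk (f.base x)) (Y'.presheaf.stalk y') := (sm g h).hom.toAlgebra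
    haveI : IsLocalHom (algebraMap (Y.presheaf.stalk (f.base x)) (Y'.presheaf.stalk y')) :=
      isLocalHom_sm g h
    letI : Algebra (Y'.presheaf.stalk y')
      ((X.presheaf.stalk x) ⊗[Y.presheaf.stalk (f.base x)] (Y'.presheaf.stalk y')) :=
        Algebra.TensorProduct.rightAlgebra
    haveI hpo : Algebra.IsPushout (Y.presheaf.stalk (f.base x)) (X.presheaf.stalk x) (Y'.presheaf.stalk y')
      ((X.presheaf.stalk x) ⊗[Y.presheaf.stalk (f.base x)] (Y'.presheaf.stalk y')) :=
      TensorProduct.isPushout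
    obtain ⟨M', _, _, _, _, _, _, f', hf'⟩ := exists_baseChange (B := X.presheaf.stalk x)
      (A' := Y'.presheaf.stalk y')
      ((X.presheaf.stalk x) ⊗[Y.presheaf.stalk (f.base x)] (Y'.presheaf.stalk y')) (F.presheaf.stalk x)
    exact (forall_flat_iff H F h M' f' hf').trans (hI (Y'.presheaf.stalk y') _ M' f' hf')
  · intro hlfp hfp
    exact hfg (essFP_stalkMap f x) (Groth.Agent.Ega1.StalkFP.finitePresentation_stalk F hqc hfp x)

section Spec

variable {A : Type u} [CommRing A]

/-- The map from `A` to the local ring of `Spec A` at a point. -/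
noncomputable def rho (A : Type u) [CommRing A] (y : (Spec (CommRingCat.of A) : Scheme.{u})) :
    CommRingCat.of A ⟶ (Spec (CommRingCat.of A)).presheaf.stalk y :=
  (Scheme.ΓSpecIso (CommRingCat.of A)).inv ≫ (Spec (CommRingCat.of A)).presheaf.germ ⊤ y trivial

theorem isIso_rho [IsLocalRing A] (y : (Spec (CommRingCat.of A) : Scheme.{u})) (hy : y = closedPoint A) :
    IsIso (rho A y) := by
  subst hy
  have h1 : rho A (closedPoint A) ≫ (stalkClosedPointIso (CommRingCat.of A)).hom = 𝟙 _ := by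
    refine (Category.assoc _ _ _).trans ((congrArg _ (germ_stalkClosedPointIso_hom _)).trans ?_)
    exact Iso.inv_hom_id _
  exact IsIso.of_isIso_fac_right h1

theorem rho_sm {T : Scheme.{u}} (g : T ⟶ Spec (CommRingCat.of A)) (t : T)
    {y : (Spec (CommRingCat.of A) : Scheme.{u})} (h : g.base t = y) :
    rho A y ≫ K257.FlatPt.sm g h = (Scheme.ΓSpecIso (CommRingCat.of A)).inv ≫ g.appTop ≫
      T.presheaf.germ ⊤ t trivial := by
  subst h
  rw [K257.FlatPt.sm_rfl, rho, Category.assoc]
  exact congrArg _ (Scheme.Hom.germ_stalkMap g ⊤ t trivial)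

/-- The ideal of a henselian local ring corepresenting flatness at a point of the closed fibre. -/
theorem exists_ideal_point [HenselianLocalRing A] (f : X ⟶ Spec (CommRingCat.of A))
    [LocallyOfFiniteType f] (F : X.Modules) (hqc : Coh.IsQCoh F) (hF : CohB1.IsFT F) (x : X)
    (hx : f.base x = closedPoint A) :
    ∃ I : Ideal A,
      (∀ (T : Scheme.{u}) (g : T ⟶ Spec (CommRingCat.of A)) (t : T), g.base t = closedPoint A →
        ((∀ x' : ↑(pullback f g), (pullback.snd f g).base x' = t → (pullback.fst f g).base x' = x →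
            FlatMod.IsFlatOverAt (pullback.snd f g) ((Scheme.Modules.pullback (pullback.fst f g)).obj F) x') ↔
          ∀ a ∈ I, (T.presheaf.germ ⊤ t trivial).hom
            (g.appTop.hom ((Scheme.ΓSpecIso (CommRingCat.of A)).inv.hom a)) = 0)) ∧
      (LocallyOfFinitePresentation f → CohB1.IsFP F → I.FG) := by
  have h1 := isIso_rho (A := A) (f.base x) hx
  let e : A ≃+* (Spec (CommRingCat.of A)).presheaf.stalk (f.base x) :=
    (asIso (rho A (f.base x))).commRingCatIsoToRingEquiv
  have : HenselianLocalRing ((Spec (CommRingCat.of A)).presheaf.stalk (f.base x)) :=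
    Groth.Agent.Proet.SHEquiv.henselianLocalRing_of_ringEquiv e
  obtain ⟨I, hI, hfg⟩ := exists_ideal_stalk f F hqc hF x
  refine ⟨I.comap (e : A →+* _), ?_, ?_⟩
  · intro T g t ht
    have h : g.base t = f.base x := ht.trans hx.symm
    have h2 : ∀ a : A, (T.presheaf.germ ⊤ t trivial).hom
            (g.appTop.hom ((Scheme.ΓSpecIso (CommRingCat.of A)).inv.hom a)) =
            (K257.FlatPt.sm g h).hom (e a) := fun a =>
      (ConcreteCategory.congr_hom (rho_sm g t h) a).symm
    have h3 := hI (IsPullback.of_hasPullback f g) t h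
    constructor
    · intro H a ha
      rw [h2]
      have h4 := h3.1 fun z hz hz' => H z hz' hz
      have h5 := Ideal.mem_map_of_mem (K257.FlatPt.sm g h).hom (Ideal.mem_comap.1 ha)
      rw [h4] at h5
      exact h5
    · intro H x' hx' hx''
      refine h3.2 ?_ x' hx'' hx'
      rw [← le_bot_iff, Ideal.map_le_iff_le_comap]
      intro b hb
      obtain ⟨a, rfl⟩ := e.surjective b
      have h6 := H a hb
      rw [h2] at h6
      exact h6
  · intro hlfp hfp
    have h7 : I.comap (e : A →+* _) = I.map (e.symm : _ →+* A) := Ideal.comap_symm e.symm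
    rw [h7]
    exact (hfg hlfp hfp).map _

theorem exists_open_le [IsLocalRing A] (f : X ⟶ Spec (CommRingCat.of A))
    [LocallyOfFinitePresentation f] (F : X.Modules) (hqc : Coh.IsQCoh F) (hfp : CohB1.IsFP F) (E : Set X)
    (hE : ∀ x ∈ E, f.base x = closedPoint A) (I : E → Ideal A)
    (hI : ∀ (x : E) (T : Scheme.{u}) (g : T ⟶ Spec (CommRingCat.of A)) (t : T), g.base t = closedPoint A →
        ((∀ x' : ↑(pullback f g), (pullback.snd f g).base x' = t → (pullback.fst f g).base x' = x →
            FlatMod.IsFlatOverAt (pullback.snd f g) ((Scheme.Modules.pullback (pullback.fst f g)).obj F) x') ↔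
          ∀ a ∈ I x, (T.presheaf.germ ⊤ t trivial).hom
            (g.appTop.hom ((Scheme.ΓSpecIso (CommRingCat.of A)).inv.hom a)) = 0)) (x : E) (hx : I x ≠ ⊤) :
    ∃ U : X.Opens, x.1 ∈ U ∧ ∀ y : E, y.1 ∈ U → I y ≤ I x := by
  have : Nontrivial (A ⧸ I x) := Ideal.Quotient.nontrivial_iff.2 hx
  have : IsLocalRing (A ⧸ I x) := IsLocalRing.of_surjective' (Ideal.Quotient.mk (I x)) Ideal.Quotient.mk_surjective
  have hloc : IsLocalHom (Ideal.Quotient.mk (I x)) :=
    IsLocalRing.local_hom_TFAE (Ideal.Quotient.mk (I x)) |>.out 4 0 |>.1 (by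
      refine (IsLocalRing.eq_maximalIdeal ?_)
      exact Ideal.comap_isMaximal_of_surjective _ Ideal.Quotient.mk_surjective)
  let g : Spec (CommRingCat.of (A ⧸ I x)) ⟶ Spec (CommRingCat.of A) :=
    Spec.map (CommRingCat.ofHom (Ideal.Quotient.mk (I x)))
  let t : (Spec (CommRingCat.of (A ⧸ I x)) : Scheme.{u}) := closedPoint (A ⧸ I x)
  have ht : g.base t = closedPoint A := IsLocalRing.comap_closedPoint (Ideal.Quotient.mk (I x))
  have hκ : ∀ a : A, ((Spec (CommRingCat.of (A ⧸ I x))).presheaf.germ ⊤ t trivial).hom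
      (g.appTop.hom ((Scheme.ΓSpecIso (CommRingCat.of A)).inv.hom a)) =
      (rho (A ⧸ I x) t).hom (Ideal.Quotient.mk (I x) a) := by
    intro a
    have h1 := ConcreteCategory.congr_hom (Scheme.ΓSpecIso_inv_naturality
      (CommRingCat.ofHom (Ideal.Quotient.mk (I x)))) a
    have h2 := congrArg ((Spec (CommRingCat.of (A ⧸ I x))).presheaf.germ ⊤ t trivial).hom h1
    exact h2.symm
  have hiso := isIso_rho (A := A ⧸ I x) t rfl
  have hκ0 : ∀ a : A, ((Spec (CommRingCat.of (A ⧸ I x))).presheaf.germ ⊤ t trivial).hom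
      (g.appTop.hom ((Scheme.ΓSpecIso (CommRingCat.of A)).inv.hom a)) = 0 ↔ a ∈ I x := by
    intro a
    rw [hκ, map_eq_zero_iff _ (ConcreteCategory.bijective_of_isIso (rho (A ⧸ I x) t)).1,
      Ideal.Quotient.eq_zero_iff_mem]
  have hcl : IsClosedImmersion g := IsClosedImmersion.spec_of_surjective _ Ideal.Quotient.mk_surjective
  have hcl2 : IsClosedImmersion (pullback.fst f g) := inferInstance
  let W : Set ↑(pullback f g) := {x' | FlatMod.IsFlatOverAt (pullback.snd f g)
    ((Scheme.Modules.pullback (pullback.fst f g)).obj F) x'}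
  have hW : IsOpen W := Groth.Agent.Flat2G.FlatLocus.isOpen_flatLocus _ _
    (Groth.Agent.FormalA.PullbackQC.isQCoh_pullback _ _ hqc)
    (Groth.Agent.FormalA.PullbackQC.isFP_pullback _ _ hfp)
  obtain ⟨U, hU, hUW⟩ := (pullback.fst f g).isEmbedding.isInducing.isOpen_iff.1 hW
  have h3 := (hI x _ g t ht).2 fun a ha => (hκ0 a).2 ha
  refine ⟨⟨U, hU⟩, ?_, ?_⟩
  · obtain ⟨x', hx', hx''⟩ := Scheme.Pullback.exists_preimage_pullback (f := f) (g := g) x.1 t
      ((hE x.1 x.2).trans ht.symm)
    have h4 : x' ∈ W := h3 x' hx'' hx'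
    rw [← hUW] at h4
    have h5 : (pullback.fst f g).base x' ∈ U := h4
    rw [hx'] at h5
    exact h5
  · intro y hy a ha
    refine (hκ0 a).1 ((hI y _ g t ht).1 (fun x' hx' hx'' => ?_) a ha)
    have h4 : x' ∈ (pullback.fst f g) ⁻¹' U := by
      change (pullback.fst f g).base x' ∈ U
      rw [hx'']
      exact hy
    rw [hUW] at h4
    exact h4

end Spec

end K257.FlatHens
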