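import Groth.Agent.Fdesc.FlatBC
import Groth.Agent.Flat2C.FlatAt
import Groth.Agent.Flat2A.LocCorepAsm

/-!
# Flatness over the base at the points of a fibre product, in terms of local rings
-/

set_option autoImplicit false
set_option linter.style.haveILetI false
universe u

open CategoryTheory CategoryTheory.Limits AlgebraicGeometry TensorProduct IsLocalRing

namespace K257.FlatPt

section Ring

variable {B A' B' O' M M' N : Type u} [CommRing B] [CommRing A'] [CommRing B'] [CommRing O'] [IsLocalRing O']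
  [Algebra B B'] [Algebra A' B'] [Algebra B' O'] [Algebra B O'] [Algebra A' O'] [IsScalarTower B B' O']
  [IsScalarTower A' B' O'] [AddCommGroup M] [Module B M] [AddCommGroup M'] [Module B' M'] [Module B M']
  [IsScalarTower B B' M'] [Module A' M'] [IsScalarTower A' B' M'] [AddCommGroup N] [Module O' N] [Module B N]
  [IsScalarTower B O' N] [Module A' N] [IsScalarTower A' O' N]

theorem flat_iff_flatAt_max : Module.Flat A' N ↔ FlatCA.FlatAt A' (maximalIdeal O') N :=
  ⟨fun _ => (Groth.Agent.Flat2C.FlatAtCriterion.flatAt_iff _).2 (fun I x hx =>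
      ⟨1, (maximalIdeal O').one_notMem, by
        rw [one_smul]
        exact (Module.Flat.iff_lTensor_injective' (R := A') (M := N)).1 inferInstance I (by rw [hx, map_zero])⟩),
    Groth.Agent.Flat2A.LocFun.flat_of_flatAt_maximalIdeal⟩

theorem flat_iff_flatAt [Module.Flat B' O'] (f : M →ₗ[B] N) (hf : IsBaseChange O' f) (f' : M →ₗ[B] M')
    (hf' : IsBaseChange B' f') (q : Ideal B') [q.IsPrime]
    (hq : (maximalIdeal O').comap (algebraMap B' O') = q) :
    Module.Flat A' N ↔ FlatCA.FlatAt A' q M' := by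
  let _ : Module B' N := Module.compHom N (algebraMap B' O')
  have t1 : IsScalarTower B' O' N := IsScalarTower.of_algebraMap_smul fun _ _ => rfl
  have t2 : IsScalarTower B B' N := IsScalarTower.of_algebraMap_smul fun r x => by
    rw [← algebraMap_smul O' (algebraMap B B' r) x, ← IsScalarTower.algebraMap_apply, algebraMap_smul]
  let g : M' →ₗ[B'] N := hf'.lift f
  have hg : IsBaseChange O' g := by
    refine IsBaseChange.of_comp hf' ?_
    rw [IsBaseChange.lift_comp]
    exact hf
  have : (maximalIdeal O').LiesOver q := ⟨hq.symm⟩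
  rw [flat_iff_flatAt_max (O' := O')]
  exact (Groth.Agent.Flat2C.FlatAt.flatAt_iff_of_isBaseChange (R := A') g q (maximalIdeal O') hg).symm

end Ring

theorem ringHom_tensor_ext {A₀ B A' K : Type u} [CommRing A₀] [CommRing B] [CommRing A'] [CommRing K] [Algebra A₀ B]
    [Algebra A₀ A'] (φ ψ : B ⊗[A₀] A' →+* K) (h1 : ∀ b, φ (b ⊗ₜ 1) = ψ (b ⊗ₜ 1))
    (h2 : ∀ a, φ (1 ⊗ₜ a) = ψ (1 ⊗ₜ a)) : φ = ψ := by
  apply RingHom.ext
  intro ξ
  induction ξ using TensorProduct.induction_on with
  | zero => rw [map_zero, map_zero]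
  | add a b ha hb => rw [map_add, map_add, ha, hb]
  | tmul b a =>
    have h3 : (b ⊗ₜ a : B ⊗[A₀] A') = (b ⊗ₜ 1) * (1 ⊗ₜ a) := by
      rw [Algebra.TensorProduct.tmul_mul_tmul, mul_one, one_mul]
    rw [h3, map_mul, map_mul, h1, h2]

section Points

variable {P X Y' Y : Scheme.{u}} {p : P ⟶ X} {q : P ⟶ Y'} {f : X ⟶ Y} {g : Y' ⟶ Y}

/-- The stalk map with prescribed image point. -/
noncomputable def sm (f : X ⟶ Y) {x : X} {y : Y} (h : f.base x = y) :
    Y.presheaf.stalk y ⟶ X.presheaf.stalk x :=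
  Y.presheaf.stalkSpecializes (specializes_of_eq h) ≫ f.stalkMap x

theorem sm_rfl (f : X ⟶ Y) (x : X) : sm f (rfl : f.base x = f.base x) = f.stalkMap x := by
  rw [sm, TopCat.Presheaf.stalkSpecializes_refl, Category.id_comp]

theorem Spec_sm (f : X ⟶ Y) {x : X} {y : Y} (h : f.base x = y) :
    Spec.map (sm f h) ≫ Y.fromSpecStalk y = X.fromSpecStalk x ≫ f := by
  rw [sm, Spec.map_comp, Category.assoc,
    Scheme.SpecMap_stalkSpecializes_fromSpecStalk, Scheme.SpecMap_stalkMap_fromSpecStalk]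

instance isLocalHom_sm (f : X ⟶ Y) {x : X} {y : Y} (h : f.base x = y) : IsLocalHom (sm f h).hom := by
  subst h
  rw [sm_rfl]
  infer_instance

theorem sm_comp (w : p ≫ f = q ≫ g) {z : P} {x : X} {y' : Y'} {y : Y} (hx : p.base z = x)
    (hy' : q.base z = y') (h : f.base x = y) (h' : g.base y' = y) : sm f h ≫ sm p hx = sm g h' ≫ sm q hy' := by
  apply (Spec.map_injective)
  rw [← cancel_mono (Y.fromSpecStalk y), Spec.map_comp, Spec.map_comp, Category.assoc, Category.assoc,
    Spec_sm, Spec_sm, reassoc_of% (Spec_sm p hx), reassoc_of% (Spec_sm q hy'), w]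

theorem fromSpecStalk_closedPoint' {K : Type u} [CommRing K] [IsLocalRing K] {x : X}
    (α : X.presheaf.stalk x ⟶ CommRingCat.of K) [IsLocalHom α.hom] :
    (Spec.map α ≫ X.fromSpecStalk x).base (closedPoint K) = x := by
  have h1 : (Spec.map α).base (closedPoint K) = closedPoint (X.presheaf.stalk x) :=
    IsLocalRing.comap_closedPoint α.hom
  change (X.fromSpecStalk x).base ((Spec.map α).base (closedPoint K)) = x
  rw [h1]
  exact Scheme.fromSpecStalk_closedPoint

/-- Points of a fibre product from local homomorphisms to a local ring. -/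
theorem exists_point (H : IsPullback p q f g) {x : X} {y' : Y'} {y : Y} (h : f.base x = y) (h' : g.base y' = y)
    {K : Type u} [CommRing K] [IsLocalRing K] (α : X.presheaf.stalk x ⟶ CommRingCat.of K)
    (β : Y'.presheaf.stalk y' ⟶ CommRingCat.of K) [IsLocalHom α.hom] [IsLocalHom β.hom]
    (hαβ : sm f h ≫ α = sm g h' ≫ β) :
    ∃ (z : P) (hz : p.base z = x) (hz' : q.base z = y') (γ : P.presheaf.stalk z ⟶ CommRingCat.of K),
      IsLocalHom γ.hom ∧ sm p hz ≫ γ = α ∧ sm q hz' ≫ γ = β := by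
  let a : Spec (CommRingCat.of K) ⟶ X := Spec.map α ≫ X.fromSpecStalk x
  let b : Spec (CommRingCat.of K) ⟶ Y' := Spec.map β ≫ Y'.fromSpecStalk y'
  have hab : a ≫ f = b ≫ g := by
    change (Spec.map α ≫ X.fromSpecStalk x) ≫ f = (Spec.map β ≫ Y'.fromSpecStalk y') ≫ g
    rw [Category.assoc, Category.assoc, ← Spec_sm f h, ← Spec_sm g h', ← Spec.map_comp_assoc,
      ← Spec.map_comp_assoc, hαβ]
  let k := H.lift a b hab
  let z : P := k.base (closedPoint K)
  let γ : P.presheaf.stalk z ⟶ CommRingCat.of K := Scheme.stalkClosedPointTo k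
  have hγ : Spec.map γ ≫ P.fromSpecStalk z = k := Scheme.Spec_stalkClosedPointTo_fromSpecStalk k
  have hz : p.base z = x := by
    have h1 : (k ≫ p).base (closedPoint K) = x := by
      rw [H.lift_fst]
      exact fromSpecStalk_closedPoint' α
    exact h1
  have hz' : q.base z = y' := by
    have h1 : (k ≫ q).base (closedPoint K) = y' := by
      rw [H.lift_snd]
      exact fromSpecStalk_closedPoint' β
    exact h1
  refine ⟨z, hz, hz', γ, inferInstanceAs (IsLocalHom (Scheme.stalkClosedPointTo k).hom), ?_, ?_⟩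
  · apply Spec.map_injective
    rw [← cancel_mono (X.fromSpecStalk x), Spec.map_comp, Category.assoc, Spec_sm, reassoc_of% hγ, H.lift_fst]
  · apply Spec.map_injective
    rw [← cancel_mono (Y'.fromSpecStalk y'), Spec.map_comp, Category.assoc, Spec_sm, reassoc_of% hγ, H.lift_snd]

end Points

section Flat

variable {P X Y' Y : Scheme.{u}} {p : P ⟶ X} {q : P ⟶ Y'} {f : X ⟶ Y} {g : Y' ⟶ Y}

open Groth.Agent.Fdesc.PullbackStalk Groth.Agent.Fdesc.FlatBC

theorem isFlatOverAt_iff (M : X.Modules) {x : X} {y' : Y'} (z : P) (hz : p.base z = x)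
    (hz' : q.base z = y') {B' M' : Type u} [CommRing B'] [Algebra (X.presheaf.stalk x) B']
    [Algebra (Y'.presheaf.stalk y') B'] [AddCommGroup M'] [Module B' M'] [Module (X.presheaf.stalk x) M']
    [IsScalarTower (X.presheaf.stalk x) B' M'] [Module (Y'.presheaf.stalk y') M']
    [IsScalarTower (Y'.presheaf.stalk y') B' M'] (f' : M.presheaf.stalk x →ₗ[X.presheaf.stalk x] M')
    (hf' : IsBaseChange B' f') (θ : B' →+* P.presheaf.stalk z) (hθ : θ.Flat)
    (hθ1 : ∀ b, θ (algebraMap (X.presheaf.stalk x) B' b) = (sm p hz).hom b)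
    (hθ2 : ∀ a, θ (algebraMap (Y'.presheaf.stalk y') B' a) = (sm q hz').hom a) (𝔮 : Ideal B') [𝔮.IsPrime]
    (h𝔮 : (maximalIdeal (P.presheaf.stalk z)).comap θ = 𝔮) :
    FlatMod.IsFlatOverAt q ((Scheme.Modules.pullback p).obj M) z ↔ FlatCA.FlatAt (Y'.presheaf.stalk y') 𝔮 M' := by
  subst hz
  subst hz'
  simp_rw [sm_rfl] at hθ1 hθ2
  let := θ.toAlgebra
  let := stalkAlg p z
  let := stalkAlg q z
  have t1 : IsScalarTower (X.presheaf.stalk (p.base z)) B' (P.presheaf.stalk z) :=
    IsScalarTower.of_algebraMap_eq fun b => (hθ1 b).symm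
  have t2 : IsScalarTower (Y'.presheaf.stalk (q.base z)) B' (P.presheaf.stalk z) :=
    IsScalarTower.of_algebraMap_eq fun b => (hθ2 b).symm
  have : Module.Flat B' (P.presheaf.stalk z) := hθ
  let := FlatMod.moduleStalkOver p ((Scheme.Modules.pullback p).obj M) z
  have := isScalarTower p ((Scheme.Modules.pullback p).obj M) z
  let := FlatMod.moduleStalkOver q ((Scheme.Modules.pullback p).obj M) z
  have := isScalarTower q ((Scheme.Modules.pullback p).obj M) z
  exact flat_iff_flatAt (can p M z) (isBaseChange_can p M z) f' hf' 𝔮 h𝔮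

theorem exists_theta (H : IsPullback p q f g) {x : X} {y' : Y'} (h : g.base y' = f.base x) (z : P)
    (hz : p.base z = x) (hz' : q.base z = y') :
    letI := stalkAlg f x
    letI : Algebra (Y.presheaf.stalk (f.base x)) (Y'.presheaf.stalk y') := (sm g h).hom.toAlgebra
    ∃ θ : (X.presheaf.stalk x) ⊗[Y.presheaf.stalk (f.base x)] (Y'.presheaf.stalk y') →+* P.presheaf.stalk z,
      θ.Flat ∧ (∀ b, θ (b ⊗ₜ 1) = (sm p hz).hom b) ∧ (∀ a, θ (1 ⊗ₜ a) = (sm q hz').hom a) := by
  subst hz
  subst hz'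
  have h1 := flat_productMap_stalk H z
  letI := stalkAlg f (p.base z)
  letI : Algebra (Y.presheaf.stalk (f.base (p.base z))) (Y'.presheaf.stalk (q.base z)) :=
    (crossMap H.w z).hom.toAlgebra
  letI := stalkAlg p z
  letI := stalkAlg q z
  letI : Algebra (Y.presheaf.stalk (f.base (p.base z))) (P.presheaf.stalk z) :=
    (f.stalkMap (p.base z) ≫ p.stalkMap z).hom.toAlgebra
  haveI : IsScalarTower (Y.presheaf.stalk (f.base (p.base z))) (X.presheaf.stalk (p.base z))
    (P.presheaf.stalk z) := IsScalarTower.of_algebraMap_eq fun _ => rfl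
  haveI : IsScalarTower (Y.presheaf.stalk (f.base (p.base z))) (Y'.presheaf.stalk (q.base z))
    (P.presheaf.stalk z) := IsScalarTower.of_algebraMap_eq fun r =>
      (ConcreteCategory.congr_hom (crossMap_comp H.w z) r).symm
  refine ⟨_, h1, fun b => ?_, fun a => ?_⟩
  · rw [sm_rfl]
    change Algebra.TensorProduct.productMap _ _ (b ⊗ₜ 1) = _
    rw [Algebra.TensorProduct.productMap_apply_tmul, map_one, mul_one]
    rfl
  · rw [sm_rfl]
    change Algebra.TensorProduct.productMap _ _ (1 ⊗ₜ a) = _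
    rw [Algebra.TensorProduct.productMap_apply_tmul, map_one, one_mul]
    rfl

/-- **Flatness over the base at the points of the fibre product over a pair of points.** -/
theorem forall_flat_iff (H : IsPullback p q f g) (M : X.Modules) {x : X} {y' : Y'} (h : g.base y' = f.base x) :
    letI := stalkAlg f x
    letI : Algebra (Y.presheaf.stalk (f.base x)) (Y'.presheaf.stalk y') := (sm g h).hom.toAlgebra
    letI : Algebra (Y'.presheaf.stalk y')
      ((X.presheaf.stalk x) ⊗[Y.presheaf.stalk (f.base x)] (Y'.presheaf.stalk y')) :=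
        Algebra.TensorProduct.rightAlgebra
    ∀ (M' : Type u) [AddCommGroup M']
      [Module ((X.presheaf.stalk x) ⊗[Y.presheaf.stalk (f.base x)] (Y'.presheaf.stalk y')) M']
      [Module (X.presheaf.stalk x) M']
      [IsScalarTower (X.presheaf.stalk x)
        ((X.presheaf.stalk x) ⊗[Y.presheaf.stalk (f.base x)] (Y'.presheaf.stalk y')) M']
      [Module (Y'.presheaf.stalk y') M']
      [IsScalarTower (Y'.presheaf.stalk y')
        ((X.presheaf.stalk x) ⊗[Y.presheaf.stalk (f.base x)] (Y'.presheaf.stalk y')) M']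
      (f' : M.presheaf.stalk x →ₗ[X.presheaf.stalk x] M'),
      IsBaseChange ((X.presheaf.stalk x) ⊗[Y.presheaf.stalk (f.base x)] (Y'.presheaf.stalk y')) f' →
      ((∀ z : P, p.base z = x → q.base z = y' →
          FlatMod.IsFlatOverAt q ((Scheme.Modules.pullback p).obj M) z) ↔
        ∀ (𝔮 : Ideal ((X.presheaf.stalk x) ⊗[Y.presheaf.stalk (f.base x)] (Y'.presheaf.stalk y')))
          [𝔮.IsPrime], (maximalIdeal (Y'.presheaf.stalk y')).map (algebraMap (Y'.presheaf.stalk y')
            ((X.presheaf.stalk x) ⊗[Y.presheaf.stalk (f.base x)] (Y'.presheaf.stalk y'))) ⊔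
            (maximalIdeal (X.presheaf.stalk x)).map (algebraMap (X.presheaf.stalk x)
            ((X.presheaf.stalk x) ⊗[Y.presheaf.stalk (f.base x)] (Y'.presheaf.stalk y'))) ≤ 𝔮 →
          FlatCA.FlatAt (Y'.presheaf.stalk y') 𝔮 M') := by
  letI := stalkAlg f x
  letI : Algebra (Y.presheaf.stalk (f.base x)) (Y'.presheaf.stalk y') := (sm g h).hom.toAlgebra
  letI : Algebra (Y'.presheaf.stalk y')
    ((X.presheaf.stalk x) ⊗[Y.presheaf.stalk (f.base x)] (Y'.presheaf.stalk y')) :=
      Algebra.TensorProduct.rightAlgebra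
  intro M' _ _ _ _ _ _ f' hf'
  constructor
  · intro hflat 𝔮 _ hle
    let B' := (X.presheaf.stalk x) ⊗[Y.presheaf.stalk (f.base x)] (Y'.presheaf.stalk y')
    let κ : B' →+* 𝔮.ResidueField := algebraMap B' 𝔮.ResidueField
    let α : X.presheaf.stalk x ⟶ CommRingCat.of 𝔮.ResidueField :=
      CommRingCat.ofHom (κ.comp (algebraMap (X.presheaf.stalk x) B'))
    let β : Y'.presheaf.stalk y' ⟶ CommRingCat.of 𝔮.ResidueField :=
      CommRingCat.ofHom (κ.comp (algebraMap (Y'.presheaf.stalk y') B'))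
    have hα : IsLocalHom α.hom := ⟨fun b hb => by
      by_contra hnu
      have h1 : algebraMap (X.presheaf.stalk x) B' b ∈ 𝔮 :=
        hle (Ideal.mem_sup_right (Ideal.mem_map_of_mem _ ((mem_maximalIdeal _).2 hnu)))
      have h2 : α.hom b = 0 := Ideal.algebraMap_residueField_eq_zero.2 h1
      rw [h2] at hb
      exact not_isUnit_zero hb⟩
    have hβ : IsLocalHom β.hom := ⟨fun b hb => by
      by_contra hnu
      have h1 : algebraMap (Y'.presheaf.stalk y') B' b ∈ 𝔮 :=
        hle (Ideal.mem_sup_left (Ideal.mem_map_of_mem _ ((mem_maximalIdeal _).2 hnu)))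
      have h2 : β.hom b = 0 := Ideal.algebraMap_residueField_eq_zero.2 h1
      rw [h2] at hb
      exact not_isUnit_zero hb⟩
    have hαβ : sm f (rfl : f.base x = f.base x) ≫ α = sm g h ≫ β := by
      rw [sm_rfl]
      ext a
      change κ (algebraMap (Y.presheaf.stalk (f.base x)) (X.presheaf.stalk x) a ⊗ₜ 1) =
        κ (1 ⊗ₜ algebraMap (Y.presheaf.stalk (f.base x)) (Y'.presheaf.stalk y') a)
      congr 1
      rw [Algebra.algebraMap_eq_smul_one, Algebra.algebraMap_eq_smul_one, TensorProduct.smul_tmul]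
    obtain ⟨z, hz, hz', γ, hγ, hγ1, hγ2⟩ := exists_point H rfl h α β hαβ
    obtain ⟨θ, hθ, hθ1, hθ2⟩ := exists_theta H h z hz hz'
    have hγθ : γ.hom.comp θ = κ := ringHom_tensor_ext _ _
      (fun b => by
        rw [RingHom.comp_apply, hθ1]
        exact ConcreteCategory.congr_hom hγ1 b)
      (fun a => by
        rw [RingHom.comp_apply, hθ2]
        exact ConcreteCategory.congr_hom hγ2 a)
    have h𝔮 : (maximalIdeal (P.presheaf.stalk z)).comap θ = 𝔮 := by
      ext ξ
      rw [Ideal.mem_comap, mem_maximalIdeal, mem_nonunits_iff]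
      have h6 : IsUnit (θ ξ) ↔ IsUnit (γ.hom (θ ξ)) := (isUnit_map_iff γ.hom (θ ξ)).symm
      have h8 : γ.hom (θ ξ) = κ ξ := RingHom.congr_fun hγθ ξ
      rw [h6, h8, isUnit_iff_ne_zero, not_not]
      exact Ideal.algebraMap_residueField_eq_zero
    exact (isFlatOverAt_iff M z hz hz' f' hf' θ hθ hθ1 hθ2 𝔮 h𝔮).1 (hflat z hz hz')
  · intro hflat z hz hz'
    obtain ⟨θ, hθ, hθ1, hθ2⟩ := exists_theta H h z hz hz'
    refine (isFlatOverAt_iff M z hz hz' f' hf' θ hθ hθ1 hθ2 _ rfl).2 (hflat _ (sup_le ?_ ?_))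
    · rw [Ideal.map_le_iff_le_comap]
      intro a ha
      rw [Ideal.mem_comap, Ideal.mem_comap]
      have h7 : θ (algebraMap _ _ a) = (sm q hz').hom a := hθ2 a
      rw [h7]
      rw [mem_maximalIdeal, mem_nonunits_iff] at ha ⊢
      exact fun hu => ha (isUnit_of_map_unit (sm q hz').hom a hu)
    · rw [Ideal.map_le_iff_le_comap]
      intro a ha
      rw [Ideal.mem_comap, Ideal.mem_comap]
      have h7 : θ (algebraMap _ _ a) = (sm p hz).hom a := hθ1 a
      rw [h7]
      rw [mem_maximalIdeal, mem_nonunits_iff] at ha ⊢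
      exact fun hu => ha (isUnit_of_map_unit (sm p hz).hom a hu)

end Flat

end K257.FlatPt
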