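import Mathlib.RingTheory.TensorProduct.DirectLimitFG
import Mathlib.RingTheory.FinitePresentation
import Mathlib.RingTheory.TensorProduct.Maps

/-!
# Descending isomorphisms of finitely presented algebras to finitely generated subalgebras of the base
-/

set_option autoImplicit false

open TensorProduct

namespace K257.IsoDescent

universe u v w w'

variable {E : Type u} [CommRing E] {C : Type v} [CommRing C] [Algebra E C] {D : Type w} [CommRing D] [Algebra E D]

/-- The `T`-linear extension of an `E`-algebra map `C → T ⊗ D`. -/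
noncomputable def ext {T : Type w'} [CommRing T] [Algebra E T] (φ : C →ₐ[E] T ⊗[E] D) : T ⊗[E] C →ₐ[T] T ⊗[E] D :=
  Algebra.TensorProduct.lift (Algebra.ofId T _) φ (fun _ _ => Commute.all _ _)

theorem ext_tmul {T : Type w'} [CommRing T] [Algebra E T] (φ : C →ₐ[E] T ⊗[E] D) (t : T) (c : C) :
    ext φ (t ⊗ₜ c) = algebraMap T (T ⊗[E] D) t * φ c := by
  simp [ext, Algebra.ofId_apply]

/-- The change of scalars `T ⊗ D → T' ⊗ D`. -/
noncomputable abbrev chg {T T' : Type w'} [CommRing T] [CommRing T'] [Algebra E T] [Algebra E T'] (h : T →ₐ[E] T')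
    (D : Type w) [CommRing D] [Algebra E D] : T ⊗[E] D →ₐ[E] T' ⊗[E] D :=
  Algebra.TensorProduct.map h (AlgHom.id E D)

theorem chg_algebraMap {T T' : Type w'} [CommRing T] [CommRing T'] [Algebra E T] [Algebra E T'] (h : T →ₐ[E] T') (t : T) :
    chg h D (algebraMap T (T ⊗[E] D) t) = algebraMap T' (T' ⊗[E] D) (h t) := by
  simp [chg, Algebra.TensorProduct.algebraMap_apply]

theorem ext_chg {T T' : Type w'} [CommRing T] [CommRing T'] [Algebra E T] [Algebra E T'] (h : T →ₐ[E] T')
    (φ : C →ₐ[E] T ⊗[E] D) (x : T ⊗[E] C) :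
    ext ((chg h D).comp φ) (chg h C x) = chg h D (ext φ x) := by
  induction x with
  | zero => simp
  | add x y hx hy => rw [map_add, map_add, map_add, map_add, hx, hy]
  | tmul t c =>
    rw [Algebra.TensorProduct.map_tmul, AlgHom.id_apply, ext_tmul, ext_tmul, map_mul, chg_algebraMap]
    rfl

variable {R : Type w'} [CommRing R] [Algebra E R]

theorem chg_val_eq (A : Subalgebra E R) (x : A ⊗[E] D) :
    chg A.val D x = LinearMap.rTensor D A.val.toLinearMap x := by
  induction x with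
  | zero => simp
  | add x y hx hy => rw [map_add, map_add, hx, hy]
  | tmul t c => simp

theorem chg_incl_eq {A B : Subalgebra E R} (h : A ≤ B) (x : A ⊗[E] D) :
    chg (Subalgebra.inclusion h) D x = LinearMap.rTensor D (Subalgebra.inclusion h).toLinearMap x := by
  induction x with
  | zero => simp
  | add x y hx hy => rw [map_add, map_add, hx, hy]
  | tmul t c => simp

theorem chg_incl_incl {A B A' : Subalgebra E R} (h : A ≤ B) (h' : B ≤ A') (x : A ⊗[E] D) :
    chg (Subalgebra.inclusion h') D (chg (Subalgebra.inclusion h) D x) =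
      chg (Subalgebra.inclusion (h.trans h')) D x := by
  induction x with
  | zero => simp
  | add x y hx hy => rw [map_add, map_add, map_add, hx, hy]
  | tmul t c => simp

theorem chg_incl_val {A B : Subalgebra E R} (h : A ≤ B) (x : A ⊗[E] D) :
    chg B.val D (chg (Subalgebra.inclusion h) D x) = chg A.val D x := by
  induction x with
  | zero => simp
  | add x y hx hy => rw [map_add, map_add, map_add, hx, hy]
  | tmul t c => simp

/-- Finitely many elements of `A ⊗ D` vanishing in `R ⊗ D` vanish in some `B ⊗ D`. -/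
theorem exists_vanish {ι : Type*} (s : Finset ι) (A : Subalgebra E R) (hA : A.FG) (x : ι → A ⊗[E] D)
    (hx : ∀ i ∈ s, chg A.val D (x i) = 0) :
    ∃ (B : Subalgebra E R) (h : A ≤ B), B.FG ∧ ∀ i ∈ s, chg (Subalgebra.inclusion h) D (x i) = 0 := by
  classical
  induction s using Finset.induction_on with
  | empty => exact ⟨A, le_rfl, hA, by simp⟩
  | insert i s _ ih =>
    obtain ⟨B, hB, hBfg, hBx⟩ := ih fun j hj => hx j (Finset.mem_insert_of_mem hj)
    have h1 : chg B.val D (chg (Subalgebra.inclusion hB) D (x i)) = 0 := by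
      rw [chg_incl_val]
      exact hx i (Finset.mem_insert_self _ _)
    rw [chg_val_eq] at h1
    obtain ⟨B', hBB', hB'fg, h2⟩ := TensorProduct.Algebra.eq_of_fg_of_subtype_eq (N := D) (A := B) hBfg
      (t := chg (Subalgebra.inclusion hB) D (x i)) (t' := 0) (by rw [h1, map_zero])
    refine ⟨B', hB.trans hBB', hB'fg, fun j hj => ?_⟩
    rw [← chg_incl_incl hB hBB']
    rcases Finset.mem_insert.mp hj with rfl | hj
    · rw [chg_incl_eq hBB', h2, map_zero]
    · rw [hBx j hj, map_zero]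

/-- Finitely many elements of `R ⊗ D` come from some `B ⊗ D`. -/
theorem exists_mem {ι : Type*} (s : Finset ι) (x : ι → R ⊗[E] D) :
    ∃ (B : Subalgebra E R), B.FG ∧ ∀ i ∈ s, ∃ y : B ⊗[E] D, chg B.val D y = x i := by
  classical
  induction s using Finset.induction_on with
  | empty => exact ⟨⊥, Subalgebra.fg_bot, by simp⟩
  | insert i s _ ih =>
    obtain ⟨B, hBfg, hBx⟩ := ih
    obtain ⟨B', hB'fg, y, hy⟩ := TensorProduct.Algebra.exists_of_fg (R := E) (S := R) (N := D) (x i)
    refine ⟨B ⊔ B', hBfg.sup hB'fg, fun j hj => ?_⟩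
    rcases Finset.mem_insert.mp hj with rfl | hj
    · exact ⟨chg (Subalgebra.inclusion le_sup_right) D y, by rw [chg_incl_val, chg_val_eq, hy]⟩
    · obtain ⟨z, hz⟩ := hBx j hj
      exact ⟨chg (Subalgebra.inclusion le_sup_left) D z, by rw [chg_incl_val, hz]⟩

/-- An algebra map out of a finitely presented algebra into `R ⊗ D` comes from some `B ⊗ D`. -/
theorem exists_hom [Algebra.FinitePresentation E C] (φ : C →ₐ[E] R ⊗[E] D) :
    ∃ (B : Subalgebra E R), B.FG ∧ ∃ φ₀ : C →ₐ[E] B ⊗[E] D, (chg B.val D).comp φ₀ = φ := by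
  classical
  obtain ⟨n, f, hf, ⟨s, hs⟩⟩ := Algebra.FinitePresentation.out (R := E) (A := C)
  obtain ⟨A, hA, hx⟩ := exists_mem (E := E) (R := R) (D := D) (Finset.univ : Finset (Fin n)) (fun i => φ (f (MvPolynomial.X i)))
  choose y hy using fun i => hx i (Finset.mem_univ i)
  let g : MvPolynomial (Fin n) E →ₐ[E] A ⊗[E] D := MvPolynomial.aeval y
  have hg : (chg A.val D).comp g = φ.comp f := by
    apply MvPolynomial.algHom_ext
    intro i
    simp only [AlgHom.comp_apply, g, MvPolynomial.aeval_X]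
    exact hy i
  have hgx : ∀ x, chg A.val D (g x) = φ (f x) := fun x => congr($hg x)
  obtain ⟨B, hAB, hB, hv⟩ := exists_vanish s A hA (fun p => g p) (fun p hp => by
    have : p ∈ RingHom.ker f.toRingHom := by rw [← hs]; exact Ideal.subset_span hp
    rw [hgx]
    have h0 : f p = 0 := this
    rw [h0, map_zero])
  let g' : MvPolynomial (Fin n) E →ₐ[E] B ⊗[E] D := (chg (Subalgebra.inclusion hAB) D).comp g
  have hker : ∀ x, f x = 0 → g' x = 0 := by
    intro x hx
    have h1 : x ∈ Ideal.span (s : Set (MvPolynomial (Fin n) E)) := by rw [hs]; exact hx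
    have h2 : Ideal.span (s : Set (MvPolynomial (Fin n) E)) ≤ RingHom.ker g'.toRingHom :=
      Ideal.span_le.mpr fun p hp => hv p hp
    exact h2 h1
  let φ₀ : C →ₐ[E] B ⊗[E] D :=
    (Ideal.Quotient.liftₐ (RingHom.ker f) g' (fun x hx => hker x hx)).comp
      (Ideal.quotientKerAlgEquivOfSurjective hf).symm.toAlgHom
  have hφ₀ : ∀ x, φ₀ (f x) = g' x := by
    intro x
    change (Ideal.Quotient.liftₐ (RingHom.ker f) g' (fun x hx => hker x hx))
      ((Ideal.quotientKerAlgEquivOfSurjective hf).symm (f x)) = _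
    have : (Ideal.quotientKerAlgEquivOfSurjective hf).symm (f x) = Ideal.Quotient.mk _ x := by
      rw [AlgEquiv.symm_apply_eq]
      rfl
    rw [this]
    rfl
  refine ⟨B, hB, φ₀, ?_⟩
  ext c
  obtain ⟨x, rfl⟩ := hf c
  rw [AlgHom.comp_apply, hφ₀, ← hgx]
  exact chg_incl_val hAB (g x)

/-- Two algebra maps out of a finite type algebra into `A ⊗ D` which agree in `R ⊗ D` agree in some `B ⊗ D`. -/
theorem exists_eq [Algebra.FiniteType E C] (A : Subalgebra E R) (hA : A.FG) (φ ψ : C →ₐ[E] A ⊗[E] D)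
    (h : (chg A.val D).comp φ = (chg A.val D).comp ψ) :
    ∃ (B : Subalgebra E R) (hAB : A ≤ B), B.FG ∧
      (chg (Subalgebra.inclusion hAB) D).comp φ = (chg (Subalgebra.inclusion hAB) D).comp ψ := by
  classical
  obtain ⟨s, hs⟩ := Algebra.FiniteType.out (R := E) (A := C)
  obtain ⟨B, hAB, hB, hv⟩ := exists_vanish s A hA (fun p => φ p - ψ p) (fun p _ => by
    have := congr($h p)
    simp only [AlgHom.comp_apply] at this
    rw [map_sub, this, sub_self])
  refine ⟨B, hAB, hB, ?_⟩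
  apply AlgHom.ext_of_adjoin_eq_top hs
  intro p hp
  have := hv p hp
  rw [map_sub, sub_eq_zero] at this
  exact this

/-- The `R`-linear extension of the restriction of an `R`-algebra map is the map itself. -/
theorem ext_restrict (f : R ⊗[E] C →ₐ[R] R ⊗[E] D) :
    ext ((f.restrictScalars E).comp Algebra.TensorProduct.includeRight) = f := by
  apply Algebra.TensorProduct.ext'
  intro r c
  rw [ext_tmul]
  change _ * f (1 ⊗ₜ c) = _
  rw [← Algebra.smul_def, ← map_smul, TensorProduct.smul_tmul', smul_eq_mul, mul_one]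

theorem chg_comp_comp {A B A' : Subalgebra E R} (h : A ≤ B) (h' : B ≤ A') (φ : C →ₐ[E] A ⊗[E] D) :
    (chg (Subalgebra.inclusion h') D).comp ((chg (Subalgebra.inclusion h) D).comp φ) =
      (chg (Subalgebra.inclusion (h.trans h')) D).comp φ := by
  ext c
  exact chg_incl_incl h h' (φ c)

theorem chg_comp_val {A B : Subalgebra E R} (h : A ≤ B) (φ : C →ₐ[E] A ⊗[E] D) :
    (chg B.val D).comp ((chg (Subalgebra.inclusion h) D).comp φ) = (chg A.val D).comp φ := by
  ext c
  exact chg_incl_val h (φ c)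

/-- One half of the descent of isomorphisms: if `ψ ∘ φ = id` over `R` then this holds over a finitely generated
subalgebra. -/
theorem exists_comp_eq [Algebra.FiniteType E C] (A : Subalgebra E R) (hA : A.FG) (φ : C →ₐ[E] A ⊗[E] D)
    (ψ : D →ₐ[E] A ⊗[E] C)
    (h : ∀ c, ext ((chg A.val C).comp ψ) (chg A.val D (φ c)) = 1 ⊗ₜ c) :
    ∃ (B : Subalgebra E R) (hAB : A ≤ B), B.FG ∧ ∀ (B' : Subalgebra E R) (hBB' : B ≤ B') (c : C),
      ext ((chg (Subalgebra.inclusion (hAB.trans hBB')) C).comp ψ)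
        (chg (Subalgebra.inclusion (hAB.trans hBB')) D (φ c)) = 1 ⊗ₜ c := by
  obtain ⟨B, hAB, hB, he⟩ := exists_eq (D := C) A hA (((ext ψ).restrictScalars E).comp φ)
    Algebra.TensorProduct.includeRight (by
      ext c
      change chg A.val C (ext ψ (φ c)) = chg A.val C (1 ⊗ₜ c)
      rw [← ext_chg, h c]
      simp)
  refine ⟨B, hAB, hB, fun B' hBB' c => ?_⟩
  have h1 : chg (Subalgebra.inclusion hAB) C (ext ψ (φ c)) = chg (Subalgebra.inclusion hAB) C (1 ⊗ₜ c) := congr($he c)
  rw [ext_chg, ← chg_incl_incl hAB hBB', h1]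
  simp

theorem exists_algEquiv_aux [Algebra.FiniteType E C] [Algebra.FiniteType E D] (A : Subalgebra E R) (hA : A.FG)
    (φ : C →ₐ[E] A ⊗[E] D) (ψ : D →ₐ[E] A ⊗[E] C)
    (h : ∀ c, ext ((chg A.val C).comp ψ) (chg A.val D (φ c)) = 1 ⊗ₜ c)
    (h' : ∀ d, ext ((chg A.val D).comp φ) (chg A.val C (ψ d)) = 1 ⊗ₜ d) :
    ∃ (B : Subalgebra E R), B.FG ∧ Nonempty (B ⊗[E] C ≃ₐ[B] B ⊗[E] D) := by
  obtain ⟨B₁, hB₁, hB₁fg, H₁⟩ := exists_comp_eq A hA φ ψ h
  obtain ⟨B₂, hB₂, hB₂fg, H₂⟩ := exists_comp_eq A hA ψ φ h'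
  obtain ⟨B, hB, h₁, h₂⟩ : ∃ B : Subalgebra E R, B.FG ∧ B₁ ≤ B ∧ B₂ ≤ B :=
    ⟨B₁ ⊔ B₂, hB₁fg.sup hB₂fg, le_sup_left, le_sup_right⟩
  have G₁ := H₁ B h₁
  have G₂ := H₂ B h₂
  have hAB : A ≤ B := hB₁.trans h₁
  refine ⟨B, hB, ⟨AlgEquiv.ofAlgHom
    (ext ((chg (Subalgebra.inclusion hAB) D).comp φ))
    (ext ((chg (Subalgebra.inclusion hAB) C).comp ψ)) ?_ ?_⟩⟩
  · apply Algebra.TensorProduct.ext'
    intro b d
    rw [AlgHom.comp_apply, ext_tmul, map_mul, AlgHom.commutes, AlgHom.id_apply]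
    have := G₂ d
    rw [AlgHom.comp_apply, this]
    simp [Algebra.TensorProduct.algebraMap_apply]
  · apply Algebra.TensorProduct.ext'
    intro b c
    rw [AlgHom.comp_apply, ext_tmul, map_mul, AlgHom.commutes, AlgHom.id_apply]
    have := G₁ c
    rw [AlgHom.comp_apply, this]
    simp [Algebra.TensorProduct.algebraMap_apply]

/-- Isomorphisms of finitely presented algebras descend to a finitely generated subalgebra. -/
theorem exists_algEquiv [Algebra.FinitePresentation E C] [Algebra.FinitePresentation E D]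
    (e : R ⊗[E] C ≃ₐ[R] R ⊗[E] D) :
    ∃ (B : Subalgebra E R), B.FG ∧ Nonempty (B ⊗[E] C ≃ₐ[B] B ⊗[E] D) := by
  obtain ⟨A₁, hA₁, φ₀, hφ₀⟩ := exists_hom ((e.toAlgHom.restrictScalars E).comp Algebra.TensorProduct.includeRight)
  obtain ⟨A₂, hA₂, ψ₀, hψ₀⟩ := exists_hom ((e.symm.toAlgHom.restrictScalars E).comp Algebra.TensorProduct.includeRight)
  obtain ⟨A, hA, h₁, h₂⟩ : ∃ B : Subalgebra E R, B.FG ∧ A₁ ≤ B ∧ A₂ ≤ B :=
    ⟨A₁ ⊔ A₂, hA₁.sup hA₂, le_sup_left, le_sup_right⟩
  have hφ₁ : (chg A.val D).comp ((chg (Subalgebra.inclusion h₁) D).comp φ₀) =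
      (e.toAlgHom.restrictScalars E).comp Algebra.TensorProduct.includeRight := by
    rw [chg_comp_val, hφ₀]
  have hψ₁ : (chg A.val C).comp ((chg (Subalgebra.inclusion h₂) C).comp ψ₀) =
      (e.symm.toAlgHom.restrictScalars E).comp Algebra.TensorProduct.includeRight := by
    rw [chg_comp_val, hψ₀]
  refine exists_algEquiv_aux A hA ((chg (Subalgebra.inclusion h₁) D).comp φ₀)
    ((chg (Subalgebra.inclusion h₂) C).comp ψ₀) (fun c => ?_) (fun d => ?_)
  · have : chg A.val D (((chg (Subalgebra.inclusion h₁) D).comp φ₀) c) = e (1 ⊗ₜ c) := congr($hφ₁ c)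
    rw [hψ₁, this, ext_restrict]
    exact e.symm_apply_apply _
  · have : chg A.val C (((chg (Subalgebra.inclusion h₂) C).comp ψ₀) d) = e.symm (1 ⊗ₜ d) := congr($hψ₁ d)
    rw [hφ₁, this, ext_restrict]
    exact e.apply_symm_apply _

end K257.IsoDescent
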