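import Groth.Agent.FlatMor.K257.IsoDescent
import Mathlib.AlgebraicGeometry.Pullbacks
import Mathlib.AlgebraicGeometry.Morphisms.Affine
import Mathlib.AlgebraicGeometry.Morphisms.FiniteType
import Mathlib.AlgebraicGeometry.Morphisms.FinitePresentation

/-!
# Descending isomorphisms of finitely presented affine schemes over an affine base
-/

set_option autoImplicit false
universe u

open AlgebraicGeometry CategoryTheory Limits TensorProduct

namespace K257.IsoDescentSch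

/-- Base change of an affine scheme along a map of affine schemes given by a ring map. -/
theorem isPullback_tensor {T Y : Scheme.{u}} [IsAffine T] [IsAffine Y] (y : Y ⟶ T) (B : Type u) [CommRing B]
    [Algebra Γ(T, ⊤) B] :
    letI := y.appTop.hom.toAlgebra
    IsPullback (Spec.map (CommRingCat.ofHom (Algebra.TensorProduct.includeRight (R := Γ(T, ⊤)) (A := B) (B := Γ(Y, ⊤))).toRingHom) ≫
        Y.isoSpec.inv)
      (Spec.map (CommRingCat.ofHom (algebraMap B (B ⊗[Γ(T, ⊤)] Γ(Y, ⊤))))) y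
      (Spec.map (CommRingCat.ofHom (algebraMap Γ(T, ⊤) B)) ≫ T.isoSpec.inv) := by
  let _ := y.appTop.hom.toAlgebra
  have h1 : IsPullback Y.isoSpec.inv (Spec.map y.appTop) y T.isoSpec.inv :=
    IsPullback.of_horiz_isIso ⟨by rw [Iso.inv_comp_eq, ← Category.assoc, Scheme.isoSpec_hom_naturality, Category.assoc,
      Iso.hom_inv_id, Category.comp_id]⟩
  have h2 := isPullback_SpecMap_of_isPushout _ _ _ _
    (CommRingCat.isPushout_tensorProduct Γ(T, ⊤) B Γ(Y, ⊤)).flip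
  exact h2.paste_horiz h1

/-- The ring isomorphism from `R ⊗ C` to the sections of a fibre product of affine schemes. -/
theorem exists_iso_tensor {T S Y P : Scheme.{u}} [IsAffine T] [IsAffine S] [IsAffine Y] (y : Y ⟶ T) (t : S ⟶ T)
    (p : P ⟶ Y) (q : P ⟶ S) (h : IsPullback p q y t) :
    letI := y.appTop.hom.toAlgebra
    letI := t.appTop.hom.toAlgebra
    ∃ e : CommRingCat.of (Γ(S, ⊤) ⊗[Γ(T, ⊤)] Γ(Y, ⊤)) ≅ Γ(P, ⊤),
      CommRingCat.ofHom (algebraMap Γ(S, ⊤) (Γ(S, ⊤) ⊗[Γ(T, ⊤)] Γ(Y, ⊤))) ≫ e.hom = q.appTop := by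
  let _ := y.appTop.hom.toAlgebra
  let _ := t.appTop.hom.toAlgebra
  have h1 : IsPushout y.appTop t.appTop p.appTop q.appTop := isPushout_appTop_of_isPullback h
  have h2 := (CommRingCat.isPushout_tensorProduct Γ(T, ⊤) Γ(S, ⊤) Γ(Y, ⊤)).flip
  refine ⟨h2.isoIsPushout _ _ h1, ?_⟩
  exact h2.inr_isoIsPushout_hom _ _ h1

set_option maxHeartbeats 1000000 in
/-- Isomorphisms between finitely presented affine schemes over an affine base descend to a base of finite type. -/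
theorem exists_iso_stage {T S Y₁ Y₂ P₁ P₂ : Scheme.{u}} [IsAffine T] [IsAffine S] [IsAffine Y₁] [IsAffine Y₂]
    (t : S ⟶ T) (y₁ : Y₁ ⟶ T) (y₂ : Y₂ ⟶ T) [LocallyOfFinitePresentation y₁] [LocallyOfFinitePresentation y₂]
    (p₁ : P₁ ⟶ Y₁) (q₁ : P₁ ⟶ S) (h₁ : IsPullback p₁ q₁ y₁ t) (p₂ : P₂ ⟶ Y₂) (q₂ : P₂ ⟶ S) (h₂ : IsPullback p₂ q₂ y₂ t)
    (e : P₁ ≅ P₂) (he : e.hom ≫ q₂ = q₁) :
    ∃ (T' : Scheme.{u}) (a : S ⟶ T') (b : T' ⟶ T), a ≫ b = t ∧ IsAffine T' ∧ LocallyOfFiniteType b ∧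
      ∃ e' : pullback y₁ b ≅ pullback y₂ b, e'.hom ≫ pullback.snd y₂ b = pullback.snd y₁ b := by
  let _ := y₁.appTop.hom.toAlgebra
  let _ := y₂.appTop.hom.toAlgebra
  let _ := t.appTop.hom.toAlgebra
  have _ : Algebra.FinitePresentation Γ(T, ⊤) Γ(Y₁, ⊤) := y₁.finitePresentation_appTop
  have _ : Algebra.FinitePresentation Γ(T, ⊤) Γ(Y₂, ⊤) := y₂.finitePresentation_appTop
  obtain ⟨e₁, he₁⟩ := exists_iso_tensor y₁ t p₁ q₁ h₁
  obtain ⟨e₂, he₂⟩ := exists_iso_tensor y₂ t p₂ q₂ h₂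
  have hP : IsIso e.inv.appTop := inferInstanceAs (IsIso (e.inv.app ⊤))
  let ε : CommRingCat.of (Γ(S, ⊤) ⊗[Γ(T, ⊤)] Γ(Y₁, ⊤)) ≅ CommRingCat.of (Γ(S, ⊤) ⊗[Γ(T, ⊤)] Γ(Y₂, ⊤)) :=
    e₁ ≪≫ asIso e.inv.appTop ≪≫ e₂.symm
  have hε : CommRingCat.ofHom (algebraMap Γ(S, ⊤) (Γ(S, ⊤) ⊗[Γ(T, ⊤)] Γ(Y₁, ⊤))) ≫ ε.hom =
      CommRingCat.ofHom (algebraMap Γ(S, ⊤) (Γ(S, ⊤) ⊗[Γ(T, ⊤)] Γ(Y₂, ⊤))) := by
    simp only [ε, Iso.trans_hom, asIso_hom, Iso.symm_hom]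
    rw [← Category.assoc, he₁, ← Category.assoc, Iso.comp_inv_eq, he₂, ← he, Scheme.Hom.comp_appTop, Category.assoc,
      ← Scheme.Hom.comp_appTop]
    simp
  obtain ⟨B, hB, ⟨σ⟩⟩ := K257.IsoDescent.exists_algEquiv (E := Γ(T, ⊤)) (R := Γ(S, ⊤)) (C := Γ(Y₁, ⊤)) (D := Γ(Y₂, ⊤))
    (AlgEquiv.ofRingEquiv (f := ε.commRingCatIsoToRingEquiv) (fun x => congr($(hε).hom x)))
  have H₁ := isPullback_tensor y₁ B
  have H₂ := isPullback_tensor y₂ B
  refine ⟨Spec (CommRingCat.of B), S.isoSpec.hom ≫ Spec.map (CommRingCat.ofHom (algebraMap B Γ(S, ⊤))),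
    Spec.map (CommRingCat.ofHom (algebraMap Γ(T, ⊤) B)) ≫ T.isoSpec.inv, ?_, inferInstance, ?_, ?_⟩
  · have h3 : CommRingCat.ofHom (algebraMap Γ(T, ⊤) B) ≫ CommRingCat.ofHom (algebraMap B Γ(S, ⊤)) = t.appTop := by
      ext x
      rfl
    rw [Category.assoc, ← Category.assoc (Spec.map _), ← Spec.map_comp, h3, ← Category.assoc,
      Scheme.isoSpec_hom_naturality, Category.assoc, Iso.hom_inv_id, Category.comp_id]
  · have : Algebra.FiniteType Γ(T, ⊤) B := (Subalgebra.fg_iff_finiteType B).mp hB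
    have : LocallyOfFiniteType (Spec.map (CommRingCat.ofHom (algebraMap Γ(T, ⊤) B))) := by
      rw [HasRingHomProperty.Spec_iff (P := @LocallyOfFiniteType)]
      exact RingHom.finiteType_algebraMap.mpr inferInstance
    infer_instance
  · let τ : Spec (CommRingCat.of (B ⊗[Γ(T, ⊤)] Γ(Y₁, ⊤))) ≅ Spec (CommRingCat.of (B ⊗[Γ(T, ⊤)] Γ(Y₂, ⊤))) :=
      Scheme.Spec.mapIso (RingEquiv.toCommRingCatIso σ.symm.toRingEquiv).op
    have hτ : τ.hom ≫ Spec.map (CommRingCat.ofHom (algebraMap B (B ⊗[Γ(T, ⊤)] Γ(Y₂, ⊤)))) =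
        Spec.map (CommRingCat.ofHom (algebraMap B (B ⊗[Γ(T, ⊤)] Γ(Y₁, ⊤)))) := by
      change Spec.map _ ≫ Spec.map _ = _
      rw [← Spec.map_comp]
      congr 1
      ext x
      exact σ.symm.commutes x
    refine ⟨H₁.isoPullback.symm ≪≫ τ ≪≫ H₂.isoPullback, ?_⟩
    simp only [Iso.trans_hom, Iso.symm_hom, Category.assoc, IsPullback.isoPullback_hom_snd]
    rw [hτ, Iso.inv_comp_eq, IsPullback.isoPullback_hom_snd]

end K257.IsoDescentSch
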