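import Groth.Agent.Flat2H.KoszulDescent
import Groth.Agent.Flat2H.LCIPoint

/-!
# Exchange of several elements in Koszul-regular sequences, and quotients by part of the generators
-/

set_option autoImplicit false
universe u

namespace K257.KosExch

open LCI Groth.Agent.Flat2H KoszulSeq KoszulWrap KoszulIdeal FibreRank TensorProduct

variable {R : Type u} [CommRing R]

lemma exists_smul_mem_of_tmul_eq_zero {M : Type u} [AddCommGroup M] [Module R M] (q : Ideal R)
    [q.IsPrime] (x : M) (h : (1 : q.ResidueField) ⊗ₜ[R] x = 0) :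
    ∃ t : R, t ∉ q ∧ t • x ∈ q • (⊤ : Submodule R M) := by
  let A := R ⧸ q
  have h1 : (1 : q.ResidueField) ⊗ₜ[A] ((1 : A) ⊗ₜ[R] x) = 0 := by
    apply (AlgebraTensorModule.cancelBaseChange R A q.ResidueField q.ResidueField M).injective
    rw [AlgebraTensorModule.cancelBaseChange_tmul, map_zero, one_smul, h]
  obtain ⟨⟨c, hc⟩, hcx⟩ := (IsLocalizedModule.eq_zero_iff (nonZeroDivisors A)
    (TensorProduct.mk A q.ResidueField (A ⊗[R] M) 1)).1 h1
  obtain ⟨t, rfl⟩ := Ideal.Quotient.mk_surjective c
  refine ⟨t, fun ht => ?_, ?_⟩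
  · rw [Ideal.Quotient.eq_zero_iff_mem.2 ht] at hc
    exact zero_notMem_nonZeroDivisors hc
  · have h2 : (Ideal.Quotient.mk q t) ⊗ₜ[R] x = (0 : A ⊗[R] M) := by
      have : (Ideal.Quotient.mk q t) ⊗ₜ[R] x = (Ideal.Quotient.mk q t) • ((1 : A) ⊗ₜ[R] x) := by
        rw [TensorProduct.smul_tmul', smul_eq_mul, mul_one]
      rw [this]
      exact hcx
    have h3 := congrArg (quotTensorEquivQuotSMul M q) h2
    rwa [quotTensorEquivQuotSMul_mk_tmul, map_zero, Submodule.Quotient.mk_eq_zero] at h3

lemma linearIndependent_tmul {K : Ideal R} (q : Ideal R) [q.IsPrime] {ι : Type} [Fintype ι]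
    (F : ι → K) (h : ∀ s : ι → R, ∑ i, s i * (F i : R) ∈ q * K → ∀ i, s i ∈ q) :
    LinearIndependent q.ResidueField (fun i => (1 : q.ResidueField) ⊗ₜ[R] F i) := by
  rw [Fintype.linearIndependent_iff]
  intro c hc i
  obtain ⟨⟨b, hb⟩, hbc⟩ := IsLocalization.exist_integer_multiples_of_finite
    (nonZeroDivisors (R ⧸ q)) c
  obtain ⟨b, rfl⟩ := Ideal.Quotient.mk_surjective b
  have hbq : b ∉ q := fun ht => by
    rw [Ideal.Quotient.eq_zero_iff_mem.2 ht] at hb
    exact zero_notMem_nonZeroDivisors hb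
  choose s hs using hbc
  choose s' hs' using fun i => Ideal.Quotient.mk_surjective (s i)
  have hs2 : ∀ i, algebraMap R q.ResidueField (s' i) = algebraMap R q.ResidueField b * c i := by
    intro i
    have h1 := hs i
    rw [← hs' i] at h1
    have h2 : algebraMap (R ⧸ q) q.ResidueField (Ideal.Quotient.mk q (s' i)) =
        algebraMap R q.ResidueField (s' i) := rfl
    rw [h2] at h1
    rw [h1, Algebra.smul_def]
    rfl
  have h0 : (1 : q.ResidueField) ⊗ₜ[R] (∑ i, s' i • F i) = 0 := by
    rw [TensorProduct.tmul_sum]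
    have h3 : ∀ i, (1 : q.ResidueField) ⊗ₜ[R] (s' i • F i) =
        algebraMap R q.ResidueField b • (c i • ((1 : q.ResidueField) ⊗ₜ[R] F i)) := by
      intro i
      rw [← TensorProduct.smul_tmul, Algebra.smul_def, mul_one, hs2, TensorProduct.smul_tmul',
        TensorProduct.smul_tmul', smul_eq_mul, smul_eq_mul, mul_one]
    simp_rw [h3]
    rw [← Finset.smul_sum, hc, smul_zero]
  obtain ⟨t, ht, htx⟩ := exists_smul_mem_of_tmul_eq_zero q _ h0
  have h4 : ∑ i, (t * s' i) * (F i : R) ∈ q * K := by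
    have h5 := Submodule.mem_map_of_mem (f := K.subtype) htx
    rw [Submodule.map_smul'', Submodule.map_top, Submodule.range_subtype] at h5
    have h6 : K.subtype (t • ∑ i, s' i • F i) = ∑ i, (t * s' i) * (F i : R) := by
      rw [map_smul, map_sum, Finset.smul_sum]
      refine Finset.sum_congr rfl fun i _ => ?_
      rw [map_smul, smul_eq_mul, smul_eq_mul, mul_assoc]
      rfl
    rw [h6] at h5
    exact h5
  have h6 := h _ h4 i
  have h7 : s' i ∈ q := (Ideal.IsPrime.mem_or_mem ‹_› h6).resolve_left ht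
  have h8 := hs2 i
  rw [Ideal.algebraMap_residueField_eq_zero.2 h7] at h8
  exact (mul_eq_zero.1 h8.symm).resolve_left
    (fun h => hbq (Ideal.algebraMap_residueField_eq_zero.1 h))

/-- Exchange: elements `F i` of a Koszul-regular ideal `K` which are part of a minimal system of
generators at `q` can be completed to a Koszul-regular generating sequence near `q`. -/
theorem exists_genK_append {K : Ideal R} (hK : IsKoszulRegularIdeal K) (q : Ideal R) [hq : q.IsPrime]
    (hKq : K ≤ q) {c : ℕ} (F : Fin c → R) (hF : ∀ i, F i ∈ K)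
    (h : ∀ s : Fin c → R, ∑ i, s i * F i ∈ q * K → ∀ i, s i ∈ q) :
    ∃ g : R, g ∉ q ∧ ∃ m : List (Localization.Away g),
      IsKoszulRegularSeq (Localization.Away g) (m ++ (List.ofFn F).map (algebraMap R _)) ∧
      K.map (algebraMap R (Localization.Away g)) =
        Ideal.ofList (m ++ (List.ofFn F).map (algebraMap R _)) := by
  classical
  have hfg : K.FG := Groth.Agent.Flat2H.KoszulDescent.IsKoszulRegularIdeal.fg hK
  have : Module.Finite R K := Module.Finite.iff_fg.2 hfg
  let κ := q.ResidueField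
  let G : Fin c → K := fun i => ⟨F i, hF i⟩
  have hli : LinearIndependent κ (fun i => (1 : κ) ⊗ₜ[R] G i) := linearIndependent_tmul q G h
  let S : Set (κ ⊗[R] K) := Set.range (fun x : K => (1 : κ) ⊗ₜ[R] x)
  have hS : ⊤ ≤ Submodule.span κ S := by
    rintro x -
    induction x with
    | zero => exact zero_mem _
    | add x y hx hy => exact add_mem hx hy
    | tmul k x =>
      have : k ⊗ₜ[R] x = k • ((1 : κ) ⊗ₜ[R] x) := by rw [TensorProduct.smul_tmul', smul_eq_mul, mul_one]
      rw [this]
      exact Submodule.smul_mem _ _ (Submodule.subset_span ⟨x, rfl⟩)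
  let s : Set (κ ⊗[R] K) := Set.range (fun i => (1 : κ) ⊗ₜ[R] G i)
  have hsS : s ⊆ S := by
    rintro _ ⟨i, rfl⟩
    exact ⟨_, rfl⟩
  have hls : LinearIndepOn κ id s := hli.linearIndepOn_id
  obtain ⟨b, hbS, hsb, hSb, hlb⟩ := exists_linearIndepOn_id_extension hls hsS
  have hbspan : Submodule.span κ b = ⊤ := by
    rw [eq_top_iff]
    exact hS.trans (Submodule.span_le.2 hSb)
  have hbfin : b.Finite := hlb.set_finite_of_isNoetherian
  -- cardinalities
  have hbcard : b.ncard = mu K κ := by
    let B : Module.Basis b κ (κ ⊗[R] K) := Module.Basis.mk hlb (by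
      have : Set.range (fun x : b => id (x : κ ⊗[R] K)) = b := Subtype.range_coe
      rw [this, hbspan])
    rw [mu, Module.finrank_eq_nat_card_basis B, Nat.card_coe_set_eq]
  have hscard : s.ncard = c := by
    have : s = (fun i => (1 : κ) ⊗ₜ[R] G i) '' Set.univ := by simp [s]
    rw [this, Set.ncard_image_of_injective _ hli.injective, Set.ncard_univ, Nat.card_eq_fintype_card,
      Fintype.card_fin]
  let d : Finset (κ ⊗[R] K) := (hbfin.subset (Set.sdiff_subset : b \ s ⊆ b)).toFinset
  have hd : ∀ x, x ∈ d ↔ x ∈ b \ s := fun x => Set.Finite.mem_toFinset _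
  have hdcard : d.card + c = mu K κ := by
    rw [← hbcard, ← Set.ncard_sdiff_add_ncard_of_subset hsb hbfin, hscard]
    congr 1
    rw [← Set.ncard_coe_finset]
    congr 1
    ext x
    simp [hd]
  choose! y hy using fun (x : κ ⊗[R] K) (hx : x ∈ S) => (hx : ∃ z, (1 : κ) ⊗ₜ[R] z = x)
  -- the submodule generated by the chosen elements
  let T : Set K := Set.range G ∪ (y '' (d : Set (κ ⊗[R] K)))
  let N : Submodule R K := Submodule.span R T
  let M := K ⧸ N
  have hbT : ∀ x ∈ b, ∃ z ∈ T, (1 : κ) ⊗ₜ[R] z = x := by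
    intro x hx
    by_cases hxs : x ∈ s
    · obtain ⟨i, rfl⟩ := hxs
      exact ⟨G i, Or.inl ⟨i, rfl⟩, rfl⟩
    · exact ⟨y x, Or.inr ⟨x, by rw [Finset.mem_coe, hd]; exact ⟨hx, hxs⟩, rfl⟩, hy x (hbS hx)⟩
  have hM : Subsingleton (κ ⊗[R] M) := by
    rw [subsingleton_iff_forall_eq 0]
    intro z
    obtain ⟨z, rfl⟩ := LinearMap.lTensor_surjective κ N.mkQ_surjective z
    have hz : z ∈ Submodule.span κ b := by rw [hbspan]; trivial
    change N.mkQ.baseChange κ z = 0
    rw [← LinearMap.mem_ker]
    refine (Submodule.span_le.2 ?_ : Submodule.span κ b ≤ _) hz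
    intro x hx
    obtain ⟨w, hwT, rfl⟩ := hbT x hx
    rw [SetLike.mem_coe, LinearMap.mem_ker, LinearMap.baseChange_tmul, Submodule.mkQ_apply,
      (Submodule.Quotient.mk_eq_zero N).2 (Submodule.subset_span hwT), TensorProduct.tmul_zero]
  have hs : (⟨q, ‹_›⟩ : PrimeSpectrum R) ∉ Module.support R M := by
    rw [Module.mem_support_iff_nontrivial_residueField_tensorProduct, not_nontrivial_iff_subsingleton]
    exact hM
  rw [Module.mem_support_iff_of_finite] at hs
  obtain ⟨a, ha, haq⟩ := Set.not_subset.1 hs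
  have haN : ∀ z : K, a • z ∈ N := by
    intro z
    have h1 : a • (N.mkQ z) = 0 := Module.mem_annihilator.1 ha _
    rwa [← map_smul, Submodule.mkQ_apply, Submodule.Quotient.mk_eq_zero] at h1
  obtain ⟨g, hg, l, hl, hl'⟩ := isKoszulRegularIdeal_iff.1 hK q hq hKq
  have hlen : l.length = mu K κ := (mu_eq_length g hl hl' q hg hKq).symm
  let Rg := Localization.Away (g * a)
  have hga : IsUnit (algebraMap R Rg (g * a)) := IsLocalization.Away.algebraMap_isUnit _
  have hga' := hga
  rw [map_mul, IsUnit.mul_iff] at hga'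
  obtain ⟨l2, hl2len, hl2, hl2K⟩ := Groth.Agent.Flat2H.KoszulDescent.exists_list_of_isUnit g hl hl' Rg hga'.1
  let m : List Rg := d.toList.map (fun x => algebraMap R Rg (y x : R))
  have hmlen : (m ++ (List.ofFn F).map (algebraMap R Rg)).length = l2.length := by
    rw [hl2len, hlen, ← hdcard]
    simp [m]
  have hKm : K.map (algebraMap R Rg) = Ideal.ofList (m ++ (List.ofFn F).map (algebraMap R Rg)) := by
    apply le_antisymm
    · rw [Ideal.map_le_iff_le_comap]
      intro x hx
      rw [Ideal.mem_comap, ← Ideal.unit_mul_mem_iff_mem _ hga'.2, ← map_mul]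
      have h1 : a * x ∈ N.map K.subtype := by
        have := Submodule.mem_map_of_mem (f := K.subtype) (haN ⟨x, hx⟩)
        simpa using this
      have h2 : N.map K.subtype ≤ (Ideal.ofList (m ++ (List.ofFn F).map (algebraMap R Rg))).comap
          (algebraMap R Rg) := by
        rw [Submodule.map_span, Submodule.span_le]
        rintro _ ⟨z, hz, rfl⟩
        rcases hz with ⟨i, rfl⟩ | ⟨x, hx, rfl⟩
        · refine Ideal.subset_span ?_
          simp only [List.mem_append, List.mem_map, Set.mem_ofPred_eq]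
          exact Or.inr ⟨F i, (List.mem_ofFn' _ _).2 ⟨i, rfl⟩, rfl⟩
        · refine Ideal.subset_span ?_
          simp only [List.mem_append, List.mem_map, Set.mem_ofPred_eq, m]
          exact Or.inl ⟨x, Finset.mem_toList.2 hx, rfl⟩
      exact h2 h1
    · refine Ideal.span_le.2 fun x hx => ?_
      simp only [List.mem_append, List.mem_map, Set.mem_ofPred_eq, m] at hx
      rcases hx with ⟨z, -, rfl⟩ | ⟨z, hz, rfl⟩
      · exact Ideal.mem_map_of_mem _ (y z).2
      · obtain ⟨i, rfl⟩ := (List.mem_ofFn' _ _).1 hz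
        exact Ideal.mem_map_of_mem _ (hF i)
  refine ⟨g * a, ?_, m, ?_, hKm⟩
  · rw [hq.mul_mem_iff_mem_or_mem, not_or]
    exact ⟨hg, haq⟩
  · exact isKoszulRegularSeq_of_ofList_eq hl2 (hl2K.symm.trans hKm) hmlen.le

variable {S : Type u} [CommRing S]

/-- **Quotient by part of the generators.** If `π : R → S` is surjective with kernel generated by a
Koszul-regular sequence `F`, if the preimage `K` of `J ⊆ S` is Koszul-regular and if `F` is part of a minimal
system of generators of `K` at the primes of `V(K)`, then `J` is Koszul-regular. -/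
theorem isKoszulRegularIdeal_of_comap (π : R →+* S) (hπ : Function.Surjective π) {c : ℕ} (F : Fin c → R)
    (hF : IsKoszulRegularSeq R (List.ofFn F)) (hker : RingHom.ker π = Ideal.ofList (List.ofFn F))
    {J : Ideal S} (hK : IsKoszulRegularIdeal (J.comap π))
    (h : ∀ q : Ideal R, q.IsPrime → J.comap π ≤ q → ∀ s : Fin c → R,
      ∑ i, s i * F i ∈ q * J.comap π → ∀ i, s i ∈ q) : IsKoszulRegularIdeal J := by
  rw [isKoszulRegularIdeal_iff]
  intro r hr hJr
  have hKr : J.comap π ≤ r.comap π := Ideal.comap_mono hJr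
  have hkJ : RingHom.ker π ≤ J.comap π := fun x hx => by
    rw [Ideal.mem_comap, RingHom.mem_ker.1 hx]
    exact zero_mem _
  have hFK : ∀ i, F i ∈ J.comap π := fun i => hkJ (by
    rw [hker]
    exact Ideal.subset_span ((List.mem_ofFn' _ _).2 ⟨i, rfl⟩))
  obtain ⟨g, hg, m, hm, hKm⟩ := exists_genK_append hK (r.comap π) hKr F hFK
    (h _ inferInstance hKr)
  obtain ⟨π', hπ', hk, hc⟩ := exists_awayMap π hπ g
  have hk' : RingHom.ker π' = Ideal.ofList ((List.ofFn F).map (algebraMap R (Localization.Away g))) := by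
    rw [hk, hker, Ideal.map_ofList]
  refine ⟨π g, hg, m.map π', ?_, ?_⟩
  · exact (isKoszulRegularSeq_append_iff_of_surjective m (isKoszulRegularSeq_map hF) π' hπ' hk').1 hm
  · have h1 : J = (J.comap π).map π := (Ideal.map_comap_of_surjective π hπ J).symm
    rw [h1, Ideal.map_map, ← hc, ← Ideal.map_map, hKm, Ideal.map_ofList, List.map_append,
      Ideal.ofList_append]
    have h2 : Ideal.ofList (((List.ofFn F).map (algebraMap R (Localization.Away g))).map π') = ⊥ := by
      rw [← Ideal.map_ofList, ← hk', ← le_bot_iff, Ideal.map_le_iff_le_comap]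
      exact fun x hx => hx
    rw [h2, sup_bot_eq]

end K257.KosExch
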