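import Groth.Prelude.Def_RegImm

/-!
# Consequences of "Koszul-regularity of an immersion does not change along a smooth ambient morphism"

Everything here takes the statement `SmoothFac` (the type of S8657) as a hypothesis.
-/

set_option autoImplicit false
universe u

open CategoryTheory CategoryTheory.Limits AlgebraicGeometry

namespace K257.KoszulFac

/-- The statement of S8657. -/
def SmoothFac : Prop :=
  ∀ {X V V' : Scheme.{u}} (i : X ⟶ V) [IsImmersion i] (j : X ⟶ V') [IsImmersion j]
    (p : V' ⟶ V) [Smooth p] (_ : j ≫ p = i),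
    RegImm.IsRegularImmersion .koszul i ↔ RegImm.IsRegularImmersion .koszul j

/-- Two immersions over `S` into smooth `S`-schemes are Koszul-regular at the same time. -/
theorem koszul_iff_of_smooth (H : SmoothFac.{u}) {S U P P' : Scheme.{u}}
    (p : P ⟶ S) (p' : P' ⟶ S) [Smooth p] [Smooth p'] (i : U ⟶ P) (i' : U ⟶ P') [IsImmersion i] [IsImmersion i']
    (h : i ≫ p = i' ≫ p') :
    RegImm.IsRegularImmersion RegImm.Kind.koszul i ↔ RegImm.IsRegularImmersion RegImm.Kind.koszul i' := by
  have h1 : pullback.lift i i' h ≫ pullback.fst p p' = i := pullback.lift_fst _ _ _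
  have h2 : pullback.lift i i' h ≫ pullback.snd p p' = i' := pullback.lift_snd _ _ _
  have : IsImmersion (pullback.lift i i' h) := by
    have : IsImmersion (pullback.lift i i' h ≫ pullback.fst p p') := by rw [h1]; infer_instance
    exact IsImmersion.of_comp _ (pullback.fst p p')
  exact (H i (pullback.lift i i' h) (pullback.fst p p') h1).trans
    (H i' (pullback.lift i i' h) (pullback.snd p p') h2).symm

/-- Left cancellation of a smooth morphism for morphisms Koszul at a point. -/
theorem isKoszulAt_of_comp_smooth (H : SmoothFac.{u}) {X Y S : Scheme.{u}} (f : X ⟶ Y) (g : Y ⟶ S) [Smooth g]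
    (x : X) (h : Synt.IsKoszulAt (f ≫ g) x) : Synt.IsKoszulAt f x := by
  obtain ⟨U, P, i, π, hx, hft, hi, hπ, hfac⟩ := h
  have h0 : (U.ι ≫ f) ≫ g = i ≫ π := by rw [Category.assoc, hfac]
  have h1 : pullback.lift (U.ι ≫ f) i h0 ≫ pullback.fst g π = U.ι ≫ f := pullback.lift_fst _ _ _
  have h2 : pullback.lift (U.ι ≫ f) i h0 ≫ pullback.snd g π = i := pullback.lift_snd _ _ _
  have hi' : IsImmersion i := hi.1
  have : IsImmersion (pullback.lift (U.ι ≫ f) i h0) := by
    have : IsImmersion (pullback.lift (U.ι ≫ f) i h0 ≫ pullback.snd g π) := by rw [h2]; infer_instance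
    exact IsImmersion.of_comp _ (pullback.snd g π)
  refine ⟨U, pullback g π, pullback.lift (U.ι ≫ f) i h0, pullback.fst g π, hx, ?_, ?_, inferInstance, h1⟩
  · have : LocallyOfFiniteType ((U.ι ≫ f) ≫ g) := by rw [Category.assoc]; exact hft
    exact locallyOfFiniteType_of_comp _ g
  · exact (H i (pullback.lift (U.ι ≫ f) i h0) (pullback.snd g π) h2).mp hi

end K257.KoszulFac
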