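import Groth.Prelude.Def_RegImm
import Mathlib.RingTheory.TensorProduct.MvPolynomial
import Mathlib.Algebra.Category.Ring.Constructions
import Mathlib.AlgebraicGeometry.Pullbacks

/-!
# Base change of `R[x_1, …, x_n]/(F_1, …, F_c)`
-/

set_option autoImplicit false
universe u

open CategoryTheory CategoryTheory.Limits AlgebraicGeometry

namespace K257.RelGCIPush

/-- `E[x] = E ⊗_B B[x]`. -/
theorem isPushout_mvPolynomial (σ : Type) (B E : Type u) [CommRing B] [CommRing E] (φ : B →+* E) :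
    IsPushout (CommRingCat.ofHom (MvPolynomial.C (σ := σ) (R := B)))
      (CommRingCat.ofHom φ)
      (CommRingCat.ofHom (MvPolynomial.map (σ := σ) φ))
      (CommRingCat.ofHom (MvPolynomial.C (σ := σ) (R := E))) := by
  letI : Algebra B E := φ.toAlgebra
  letI : Algebra (MvPolynomial σ B) (MvPolynomial σ E) := MvPolynomial.algebraMvPolynomial
  exact CommRingCat.isPushout_of_isPushout B (MvPolynomial σ B) E (MvPolynomial σ E)

/-- Base change of a quotient ring. -/
theorem isPushout_quot {A B : Type u} [CommRing A] [CommRing B] (φ : A →+* B) (I : Ideal A) (J : Ideal B)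
    (hIJ : I ≤ J.comap φ) (hJ : J ≤ I.map φ) :
    IsPushout (CommRingCat.ofHom φ) (CommRingCat.ofHom (Ideal.Quotient.mk I))
      (CommRingCat.ofHom (Ideal.Quotient.mk J)) (CommRingCat.ofHom (Ideal.quotientMap J φ hIJ)) := by
  refine ⟨⟨?_⟩, ⟨PushoutCocone.IsColimit.mk _ (fun s => CommRingCat.ofHom
    (Ideal.Quotient.lift J s.inl.hom ?_)) ?_ ?_ ?_⟩⟩
  · apply CommRingCat.hom_ext
    ext a
    rfl
  · have h1 : J ≤ RingHom.ker s.inl.hom := by
      refine hJ.trans (Ideal.map_le_iff_le_comap.2 fun a ha => ?_)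
      rw [Ideal.mem_comap, RingHom.mem_ker]
      have hc := congrArg (fun q => q.hom a) s.condition
      have hc' : s.inl.hom (φ a) = s.inr.hom (Ideal.Quotient.mk I a) := hc
      rw [hc', Ideal.Quotient.eq_zero_iff_mem.2 ha, map_zero]
    exact fun a ha => h1 ha
  · intro s
    apply CommRingCat.hom_ext
    exact RingHom.ext fun x => rfl
  · intro s
    apply CommRingCat.hom_ext
    refine Ideal.Quotient.ringHom_ext (RingHom.ext fun x => ?_)
    have hc := congrArg (fun q => q.hom x) s.condition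
    exact hc
  · intro s m h1 h2
    apply CommRingCat.hom_ext
    refine Ideal.Quotient.ringHom_ext (RingHom.ext fun x => ?_)
    have hc := congrArg (fun q => q.hom x) h1
    exact hc

theorem span_le_comap {R₀ R : Type u} [CommRing R₀] [CommRing R] (φ : R₀ →+* R) (n c : ℕ)
    (F₀ : Fin c → MvPolynomial (Fin n) R₀) (F : Fin c → MvPolynomial (Fin n) R)
    (hF : ∀ i, MvPolynomial.map φ (F₀ i) = F i) :
    Ideal.span (Set.range F₀) ≤ (Ideal.span (Set.range F)).comap (MvPolynomial.map φ) := by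
  rw [Ideal.span_le]
  rintro _ ⟨i, rfl⟩
  change MvPolynomial.map φ (F₀ i) ∈ Ideal.span (Set.range F)
  rw [hF]
  exact Ideal.subset_span ⟨i, rfl⟩

/-- The map `R₀[x]/(F₀) → R[x]/(F)` induced by `φ : R₀ → R` with `φ(F₀) = F`. -/
noncomputable def relMap {R₀ R : Type u} [CommRing R₀] [CommRing R] (φ : R₀ →+* R) (n c : ℕ)
    (F₀ : Fin c → MvPolynomial (Fin n) R₀) (F : Fin c → MvPolynomial (Fin n) R)
    (hF : ∀ i, MvPolynomial.map φ (F₀ i) = F i) :
    Synt.RelGCIRing R₀ n c F₀ →+* Synt.RelGCIRing R n c F :=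
  Ideal.quotientMap (Ideal.span (Set.range F)) (MvPolynomial.map φ) (span_le_comap φ n c F₀ F hF)

/-- `R[x]/(F) = R ⊗_{R₀} R₀[x]/(F₀)`. -/
theorem isPushout_relGCI {R₀ R : Type u} [CommRing R₀] [CommRing R] (φ : R₀ →+* R) (n c : ℕ)
    (F₀ : Fin c → MvPolynomial (Fin n) R₀) (F : Fin c → MvPolynomial (Fin n) R)
    (hF : ∀ i, MvPolynomial.map φ (F₀ i) = F i) :
    IsPushout (CommRingCat.ofHom (algebraMap R₀ (Synt.RelGCIRing R₀ n c F₀))) (CommRingCat.ofHom φ)
      (CommRingCat.ofHom (relMap φ n c F₀ F hF))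
      (CommRingCat.ofHom (algebraMap R (Synt.RelGCIRing R n c F))) := by
  have h1 := isPushout_mvPolynomial (Fin n) R₀ R φ
  have h2 := isPushout_quot (MvPolynomial.map φ) (Ideal.span (Set.range F₀)) (Ideal.span (Set.range F))
    (span_le_comap φ n c F₀ F hF) (by
      rw [Ideal.map_span, Ideal.span_le]
      rintro _ ⟨i, rfl⟩
      exact Ideal.subset_span ⟨F₀ i, ⟨i, rfl⟩, hF i⟩)
  exact h1.paste_horiz h2.flip

end K257.RelGCIPush
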