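import Groth.Agent.UnramB.EtaleCoord
import Groth.Agent.Lefpen.H708.EtaleCoord
import Mathlib.RingTheory.Flat.TorsionFree
import Mathlib.RingTheory.Etale.Locus
import Mathlib.RingTheory.RingHom.Smooth

/-!
# Hypersurfaces in smooth algebras with nonvanishing differential
-/

set_option autoImplicit false
universe u

open TensorProduct KaehlerDifferential Polynomial

namespace K257.SmoothDiv

/-- The differentials of elements of `B` span the differentials of a localization. -/
theorem span_D_localization (A B L : Type u) [CommRing A] [CommRing B] [CommRing L] [Algebra A B] [Algebra B L]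
    [Algebra A L] [IsScalarTower A B L] (M : Submonoid B) [IsLocalization M L] :
    Submodule.span L (Set.range fun b : B => D A L (algebraMap B L b)) = ⊤ := by
  rw [eq_top_iff, ← KaehlerDifferential.span_range_derivation A L, Submodule.span_le]
  rintro _ ⟨x, rfl⟩
  obtain ⟨b, s, rfl⟩ := IsLocalization.exists_mk'_eq M x
  have hs : IsUnit (algebraMap B L s) := IsLocalization.map_units L s
  have h1 : algebraMap B L s • D A L (IsLocalization.mk' L b s) + (IsLocalization.mk' L b s) • D A L (algebraMap B L s) =
      D A L (algebraMap B L b) := by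
    rw [← Derivation.leibniz, IsLocalization.mk'_spec']
  have h2 : algebraMap B L s • D A L (IsLocalization.mk' L b s) ∈
      Submodule.span L (Set.range fun b : B => D A L (algebraMap B L b)) := by
    rw [← eq_sub_iff_add_eq] at h1
    rw [h1]
    exact sub_mem (Submodule.subset_span ⟨b, rfl⟩) (Submodule.smul_mem _ _ (Submodule.subset_span ⟨s, rfl⟩))
  obtain ⟨t, ht⟩ := hs.exists_left_inv
  have h3 := Submodule.smul_mem _ t h2
  rwa [smul_smul, ht, one_smul] at h3

/-- Etale coordinates near `q`, the first of them a given function with nonzero differential at `q`. -/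
theorem exists_etale (A B L : Type u) [CommRing A] [CommRing B] [CommRing L] [IsLocalRing L] [Algebra A B]
    [Algebra B L] [Algebra A L] [IsScalarTower A B L] [Algebra.Smooth A B] (q : Ideal B) [q.IsPrime]
    [IsLocalization.AtPrime L q] (h : B)
    (hd : (1 : IsLocalRing.ResidueField L) ⊗ₜ[L] D A L (algebraMap B L h) ≠ 0) :
    ∃ (m : ℕ) (y : Fin m → B) (g : B), g ∉ q ∧ ∀ (B' : Type u) [CommRing B'] [Algebra B B'] [Algebra A B']
      [IsScalarTower A B B'] [IsLocalization.Away g B'],
      ((MvPolynomial.aeval (fun i : Option (Fin m) => algebraMap B B' (i.elim h y)) :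
        MvPolynomial (Option (Fin m)) A →ₐ[A] B') : MvPolynomial (Option (Fin m)) A →+* B').Etale := by
  have hBL : Algebra.FormallyEtale B L := Algebra.FormallyEtale.of_isLocalization q.primeCompl
  have hAL : Algebra.FormallySmooth A L := Algebra.FormallySmooth.comp A B L
  have hfin : Module.Finite L Ω[L⁄A] := by
    have : Module.Finite B Ω[B⁄A] := inferInstance
    exact Module.Finite.equiv (KaehlerDifferential.tensorKaehlerEquivOfFormallyEtale A B L)
  obtain ⟨m, b, β, hβ⟩ := Groth.Agent.UnramB.EtaleCoord.exists_basis_D A B L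
    (span_D_localization A B L q.primeCompl) 1 (fun _ => algebraMap B L h)
    (linearIndependent_unique_iff.mpr hd)
  let σ := Option (Fin m)
  let z : σ → B := fun i => i.elim h b
  let φ : MvPolynomial σ A →ₐ[A] B := MvPolynomial.aeval z
  let e : Fin 1 ⊕ Fin m ≃ σ :=
    { toFun := fun i => Sum.elim (fun _ => none) some i
      invFun := fun i => i.elim (Sum.inl 0) Sum.inr
      left_inv := by
        rintro (i | i)
        · rw [Subsingleton.elim i 0]; rfl
        · rfl
      right_inv := by rintro (_ | i) <;> rfl }
  algebraize [φ.toRingHom]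
  have hφX : ∀ i, algebraMap (MvPolynomial σ A) B (MvPolynomial.X i) = z i := fun i => MvPolynomial.aeval_X _ i
  have hst : IsScalarTower A (MvPolynomial σ A) B := .of_algebraMap_eq' φ.comp_algebraMap.symm
  let _ : Algebra (MvPolynomial σ A) L := ((algebraMap B L).comp (algebraMap (MvPolynomial σ A) B)).toAlgebra
  have hst2 : IsScalarTower (MvPolynomial σ A) B L := .of_algebraMap_eq' rfl
  have hst3 : IsScalarTower A (MvPolynomial σ A) L := by
    refine .of_algebraMap_eq fun x => ?_
    rw [IsScalarTower.algebraMap_apply A B L, IsScalarTower.algebraMap_apply A (MvPolynomial σ A) B]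
    rfl
  have hPL : Algebra.FormallyEtale (MvPolynomial σ A) L := by
    refine Groth.Agent.UnramB.EtaleCoord.formallyEtale_mvPolynomial_of_basis A L (β.reindex e) ?_
    rintro i
    rw [IsScalarTower.algebraMap_apply (MvPolynomial σ A) B L, hφX, Module.Basis.reindex_apply, hβ]
    cases i <;> rfl
  have hfp : Algebra.FinitePresentation (MvPolynomial σ A) B :=
    .of_restrict_scalars_finitePresentation A (MvPolynomial σ A) B
  have hat : Algebra.IsEtaleAt (MvPolynomial σ A) q := by
    let ε : L ≃ₐ[B] Localization.AtPrime q := IsLocalization.algEquiv q.primeCompl L (Localization.AtPrime q)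
    exact Algebra.FormallyEtale.of_equiv (ε.restrictScalars (MvPolynomial σ A))
  obtain ⟨g, hg, het⟩ := Algebra.exists_etale_of_isEtaleAt (R := MvPolynomial σ A) (A := B) q
  refine ⟨m, b, g, hg, fun B' _ _ _ _ _ => ?_⟩
  let φ' : MvPolynomial σ A →ₐ[A] B' := MvPolynomial.aeval (fun i : σ => algebraMap B B' (z i))
  have hφ' : (φ' : MvPolynomial σ A →+* B') = (algebraMap B B').comp φ.toRingHom := by
    ext i
    · simp [φ', φ, IsScalarTower.algebraMap_apply A B B']
    · simp [φ', φ]
  let ε : Localization.Away g ≃ₐ[B] B' := IsLocalization.algEquiv (Submonoid.powers g) (Localization.Away g) B'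
  have h1 : (algebraMap B B').comp φ.toRingHom =
      (ε : Localization.Away g →+* B').comp (algebraMap (MvPolynomial σ A) (Localization.Away g)) := by
    ext x
    · simp only [RingHom.comp_apply]
      rw [IsScalarTower.algebraMap_apply (MvPolynomial σ A) B (Localization.Away g)]
      exact (ε.commutes _).symm
    · simp only [RingHom.comp_apply]
      rw [IsScalarTower.algebraMap_apply (MvPolynomial σ A) B (Localization.Away g)]
      exact (ε.commutes _).symm
  change (φ' : MvPolynomial σ A →+* B').Etale
  rw [hφ', h1]
  exact RingHom.Etale.stableUnderComposition _ _ (RingHom.etale_algebraMap.mpr het)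
    (RingHom.Etale.of_bijective ε.bijective)

/-- A hypersurface `y0 = 0` given by the first of a system of étale coordinates is smooth. -/
theorem smooth_quotient_of_etale (R A : Type u) [CommRing R] [CommRing A] [Algebra R A] (m : ℕ) (z : Option (Fin m) → A)
    (h1 : ((MvPolynomial.aeval z : MvPolynomial (Option (Fin m)) R →ₐ[R] A) :
      MvPolynomial (Option (Fin m)) R →+* A).Etale) :
    Algebra.Smooth R (A ⧸ Ideal.span {z none}) := by
  let Q := MvPolynomial (Fin m) R
  let χ : Q[X] →+* A :=
    Polynomial.eval₂RingHom ((MvPolynomial.aeval (fun i => z (some i)) : Q →ₐ[R] A) : Q →+* A) (z none)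
  have hχ : χ.Etale := by
    have h2 : χ = ((MvPolynomial.aeval z :
        MvPolynomial (Option (Fin m)) R →ₐ[R] A) : MvPolynomial (Option (Fin m)) R →+* A).comp
          ((MvPolynomial.optionEquivLeft R (Fin m)).symm.toRingEquiv :
            Q[X] →+* MvPolynomial (Option (Fin m)) R) := by
      ext x
      · simp [χ, Q]
      · simp [χ, Q]
      · simp [χ, Q]
    rw [h2]
    exact RingHom.Etale.stableUnderComposition _ _
      (RingHom.Etale.of_bijective (MvPolynomial.optionEquivLeft R (Fin m)).symm.bijective) h1
  have hJ : Ideal.span {z none} = (Ideal.span {(X : Q[X])}).map χ := by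
    rw [Ideal.map_span, Set.image_singleton]; simp [χ]
  have hq := Groth.Agent.Lefpen.H708.EtaleCoord.etale_quotientMap χ hχ (Ideal.span {(X : Q[X])}) (Ideal.span {z none}) hJ
  have hCbij : Function.Bijective
      ((Ideal.Quotient.mk (Ideal.span {(X : Q[X])})).comp (Polynomial.C : Q →+* Q[X])) := by
    constructor
    · rw [injective_iff_map_eq_zero]
      intro q hq
      rw [RingHom.comp_apply, Ideal.Quotient.eq_zero_iff_mem, Ideal.mem_span_singleton,
        Polynomial.X_dvd_iff] at hq
      simpa using hq
    · intro q
      obtain ⟨q, rfl⟩ := Ideal.Quotient.mk_surjective q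
      refine ⟨q.coeff 0, ?_⟩
      rw [RingHom.comp_apply, Ideal.Quotient.eq, Ideal.mem_span_singleton, Polynomial.X_dvd_iff]
      simp
  have h3 := RingHom.Etale.stableUnderComposition _ _ (RingHom.Etale.of_bijective hCbij) hq
  have h4 : (algebraMap R Q).Smooth := by
    rw [RingHom.smooth_algebraMap]
    have : Algebra.Smooth R Q := {}
    exact this
  have h5 : (((Ideal.quotientMap (I := Ideal.span {(X : Q[X])}) (Ideal.span {z none}) χ
      (by rw [hJ]; exact Ideal.le_comap_map)).comp
      ((Ideal.Quotient.mk (Ideal.span {(X : Q[X])})).comp (Polynomial.C : Q →+* Q[X]))).comp (algebraMap R Q)).Smooth :=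
    RingHom.Smooth.stableUnderComposition _ _ h4 ((RingHom.etale_iff_formallyUnramified_and_smooth _).mp h3).2
  rw [← RingHom.smooth_algebraMap]
  convert h5 using 1
  ext r
  simp [χ]

/-- The first of a system of étale coordinates is a nonzerodivisor. -/
theorem mem_nonZeroDivisors_of_etale (R A : Type u) [CommRing R] [CommRing A] [Algebra R A] (m : ℕ)
    (z : Option (Fin m) → A)
    (h1 : ((MvPolynomial.aeval z : MvPolynomial (Option (Fin m)) R →ₐ[R] A) :
      MvPolynomial (Option (Fin m)) R →+* A).Etale) :
    z none ∈ nonZeroDivisors A := by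
  let φ : MvPolynomial (Option (Fin m)) R →+* A :=
    ((MvPolynomial.aeval z : MvPolynomial (Option (Fin m)) R →ₐ[R] A) : MvPolynomial (Option (Fin m)) R →+* A)
  let _ := φ.toAlgebra
  have _ : Algebra.Etale (MvPolynomial (Option (Fin m)) R) A := h1
  have _ : Module.Flat (MvPolynomial (Option (Fin m)) R) A := inferInstance
  have h2 : IsSMulRegular (MvPolynomial (Option (Fin m)) R) (MvPolynomial.X none : MvPolynomial (Option (Fin m)) R) := by
    rw [← isLeftRegular_iff]
    exact (MvPolynomial.isRegular_X (R := R) (n := (none : Option (Fin m)))).left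
  have h3 : IsSMulRegular A (algebraMap (MvPolynomial (Option (Fin m)) R) A (MvPolynomial.X none)) :=
    IsSMulRegular.of_flat h2
  have h4 : algebraMap (MvPolynomial (Option (Fin m)) R) A (MvPolynomial.X none) = z none :=
    MvPolynomial.aeval_X z none
  rw [h4, ← isLeftRegular_iff] at h3
  rw [← isRegular_iff_mem_nonZeroDivisors]
  exact (isLeftRegular_iff_isRegular).mp h3

end K257.SmoothDiv
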