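import Groth.Agent.FlatMor.K257.KosExch
import Groth.Agent.Synt.K562.RelDesc
import Groth.Agent.Synt.K562.RelReg
import Groth.Agent.Synt.K561.SynLci

/-!
# Descent of the local complete intersection property along syntomic maps
-/

set_option autoImplicit false
universe u

namespace K257.SynDesc

open LCI Groth.Agent.Flat2H KoszulSeq KoszulWrap KoszulIdeal FibreRank TensorProduct K257.KosExch

section Koszul

variable {R R' : Type u} [CommRing R] [CommRing R']

/-- A criterion for a sequence to be part of a minimal system of generators. -/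
lemma mem_of_sum_mem (ψ : R →+* R') (hψ : Function.Surjective ψ) {c : ℕ} (F : Fin c → R)
    (hF : IsKoszulRegularSeq R' (List.ofFn fun i => ψ (F i))) (K : Ideal R)
    (hK : K.map ψ = Ideal.ofList (List.ofFn fun i => ψ (F i))) (hker : RingHom.ker ψ ≤ K)
    (q : Ideal R) (hKq : K ≤ q) (s : Fin c → R)
    (hs : ∑ i, s i * F i ∈ q * K) (i : Fin c) : s i ∈ q := by
  have h1 : ∑ i, ψ (s i) * ψ (F i) ∈ q.map ψ * Ideal.ofList (List.ofFn fun i => ψ (F i)) := by
    have := Ideal.mem_map_of_mem ψ hs
    rwa [Ideal.map_mul, hK, map_sum, Finset.sum_congr rfl (fun i _ => map_mul ψ (s i) (F i))] at this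
  have hof : Ideal.ofList (List.ofFn fun i => ψ (F i)) = Ideal.span (Set.range fun i => ψ (F i)) := by
    rw [Ideal.ofList]
    congr 1
    ext x
    simp [List.mem_ofFn]
  have h2 : ∃ b : Fin c → R', (∀ i, b i ∈ q.map ψ) ∧ ∑ i, b i * ψ (F i) = ∑ i, ψ (s i) * ψ (F i) := by
    rw [hof, Ideal.span, ← smul_eq_mul, Submodule.mem_ideal_smul_span_iff_exists_sum] at h1
    obtain ⟨a, ha, he⟩ := h1
    refine ⟨a, ha, ?_⟩
    rw [← he, Finsupp.sum_fintype _ _ (by simp)]
    simp
  obtain ⟨b, hb, hbs⟩ := h2
  have hlen : (List.ofFn fun i => ψ (F i)).length = c := List.length_ofFn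
  have h3 := coeff_mem_of_sum_eq_zero hF (fun j => ψ (s (Fin.cast hlen j)) - b (Fin.cast hlen j)) (by
    have h4 : ∑ i, (ψ (s i) - b i) * ψ (F i) = 0 := by
      simp only [sub_mul, Finset.sum_sub_distrib, hbs, sub_self]
    rw [← h4]
    refine Fintype.sum_equiv (finCongr hlen) _ _ fun j => ?_
    simp
    rfl) (Fin.cast hlen.symm i)
  have hKq' : Ideal.ofList (List.ofFn fun i => ψ (F i)) ≤ q.map ψ := hK ▸ Ideal.map_mono hKq
  have h5 : ψ (s i) ∈ q.map ψ := by
    have h6 := add_mem (hKq' h3) (hb i)
    simpa using h6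
  rw [Ideal.mem_map_iff_of_surjective ψ hψ] at h5
  obtain ⟨t, ht, hts⟩ := h5
  have h7 : s i - t ∈ RingHom.ker ψ := by
    rw [RingHom.mem_ker, map_sub, hts, sub_self]
  have := add_mem (hKq (hker h7)) ht
  simpa using this

end Koszul

/-- faithful flatness over a basic open -/
lemma faithfullyFlat_away {R B : Type u} [CommRing R] [CommRing B] [Algebra R B] [Module.Flat R B] (h : R)
    (H : ∀ p : PrimeSpectrum R, h ∉ p.asIdeal → p ∈ Set.range (PrimeSpectrum.comap (algebraMap R B))) :
    Module.FaithfullyFlat (Localization.Away h) (Localization.Away h ⊗[R] B) := by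
  apply Module.FaithfullyFlat.of_comap_surjective
  intro q
  have hq : h ∉ (PrimeSpectrum.comap (algebraMap R (Localization.Away h)) q).asIdeal := by
    intro hm
    exact q.isPrime.ne_top (Ideal.eq_top_of_isUnit_mem _ hm (IsLocalization.Away.algebraMap_isUnit h))
  obtain ⟨Q, hQ⟩ := H _ hq
  have hQh : IsUnit (algebraMap R Q.asIdeal.ResidueField h) := by
    rw [isUnit_iff_ne_zero, IsScalarTower.algebraMap_apply R B, Ne, Ideal.algebraMap_residueField_eq_zero]
    intro hm
    apply hq
    rw [← hQ]
    exact hm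
  let a : Localization.Away h →ₐ[R] Q.asIdeal.ResidueField :=
    IsLocalization.liftAlgHom (M := Submonoid.powers h) (f := Algebra.ofId R _) (by
      rintro ⟨_, n, rfl⟩
      change IsUnit (algebraMap R _ (h ^ n))
      rw [map_pow]
      exact hQh.pow n)
  let f : Localization.Away h ⊗[R] B →ₐ[R] Q.asIdeal.ResidueField :=
    Algebra.TensorProduct.lift a (IsScalarTower.toAlgHom R B _) (fun _ _ => .all _ _)
  refine ⟨PrimeSpectrum.comap f.toRingHom ⊥, ?_⟩
  apply PrimeSpectrum.localization_comap_injective (Localization.Away h) (Submonoid.powers h)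
  rw [← hQ]
  rw [← PrimeSpectrum.comap_comp_apply, ← PrimeSpectrum.comap_comp_apply]
  have h1 : (f.toRingHom.comp ((algebraMap (Localization.Away h) (Localization.Away h ⊗[R] B)).comp
      (algebraMap R (Localization.Away h)))) = (algebraMap B Q.asIdeal.ResidueField).comp (algebraMap R B) := by
    ext r
    simp [f, ← IsScalarTower.algebraMap_apply]
  have h2 : PrimeSpectrum.comap (algebraMap (Localization.Away h) (Localization.Away h ⊗[R] B))
      (PrimeSpectrum.comap f.toRingHom ⊥) = PrimeSpectrum.comap (f.toRingHom.comp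
        (algebraMap (Localization.Away h) (Localization.Away h ⊗[R] B))) ⊥ := rfl
  have h3 : PrimeSpectrum.comap (algebraMap B Q.asIdeal.ResidueField) ⊥ = Q := by
    ext x
    change algebraMap B Q.asIdeal.ResidueField x = 0 ↔ _
    rw [Ideal.algebraMap_residueField_eq_zero]
  have h4 : PrimeSpectrum.comap (f.toRingHom.comp
      ((algebraMap (Localization.Away h) (Localization.Away h ⊗[R] B)).comp (algebraMap R (Localization.Away h)))) ⊥ =
      PrimeSpectrum.comap (algebraMap R B) Q := by
    rw [h1, PrimeSpectrum.comap_comp_apply, h3]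
  exact h4

open K562.Rel

/-- Base change of relative global complete intersections. -/
theorem isRelGCI_baseChange {R : Type u} [CommRing R] {n c : ℕ} (F : Fin c → MvPolynomial (Fin n) R)
    (h : Synt.IsRelGCI R n c F) (R' : Type u) [CommRing R'] [Algebra R R'] :
    Synt.IsRelGCI R' n c (mapRel F R') := by
  by_cases hcn : c ≤ n
  · exact FibLE.isRelGCI _ hcn (((fibLE_of_isRelGCI F h).baseChange R').of_algEquiv (baseChangeEquiv F R'))
  · have h1 := subsingleton_of_isRelGCI F h hcn
    refine isRelGCI_of_subsingleton _ ?_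
    have h2 : Subsingleton (R' ⊗[R] Synt.RelGCIRing R n c F) := by
      refine subsingleton_of_zero_eq_one ?_
      have : (1 : R' ⊗[R] Synt.RelGCIRing R n c F) = (1 : R') ⊗ₜ[R] (1 : Synt.RelGCIRing R n c F) := rfl
      rw [this, Subsingleton.elim (1 : Synt.RelGCIRing R n c F) 0, tmul_zero]
    exact (baseChangeEquiv F R').symm.injective.subsingleton

theorem isKoszulRegularSeq_of_isRelGCI {R : Type u} [CommRing R] {n c : ℕ}
    (F : Fin c → MvPolynomial (Fin n) R) (h : Synt.IsRelGCI R n c F) :
    LCI.IsKoszulRegularSeq (MvPolynomial (Fin n) R) (List.ofFn F) := by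
  refine Groth.Agent.Flat2H.KoszulLoc.isKoszulRegularSeq_of_forall_maximal _ fun p _ hp => ?_
  have hp' : Ideal.span (Set.range F) ≤ p := by rwa [← K562.FieldCI.ofList_ofFn]
  obtain ⟨hcn, hdim⟩ := K562.RelReg.dim_of_isRelGCI p F h hp'
  exact Groth.Agent.Flat2H.KoszulBC.isKoszulRegularSeq_of_isWeaklyRegular
    (K562.RelReg.isRegular_atPrime p F hp' hcn hdim).toIsWeaklyRegular

/-- If `P` is smooth over `A`, `S` a relative global complete intersection over `P` and `S/JS` a local complete
intersection over `A`, then the ideal `JS` is Koszul-regular. -/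
theorem isKoszulRegularIdeal_map {A P : Type u} [CommRing A] [CommRing P] [Algebra A P] [Algebra.Smooth A P]
    (J : Ideal P) {n c : ℕ} (F : Fin c → MvPolynomial (Fin n) P) (hF : Synt.IsRelGCI P n c F)
    (hL : IsLCI A (Synt.RelGCIRing P n c F ⧸ J.map (algebraMap P (Synt.RelGCIRing P n c F)))) :
    IsKoszulRegularIdeal (J.map (algebraMap P (Synt.RelGCIRing P n c F))) := by
  let S := Synt.RelGCIRing P n c F
  let Q := MvPolynomial (Fin n) P
  let JS : Ideal S := J.map (algebraMap P S)
  let π : Q →+* S := Ideal.Quotient.mk (Ideal.span (Set.range F))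
  have hπ : Function.Surjective π := Ideal.Quotient.mk_surjective
  have hkerπ : RingHom.ker π = Ideal.span (Set.range F) := Ideal.mk_ker
  let K : Ideal Q := JS.comap π
  let φ : Q →ₐ[A] S ⧸ JS := (Ideal.Quotient.mkₐ A JS).comp (Ideal.Quotient.mkₐ A (Ideal.span (Set.range F)))
  have hφ : Function.Surjective φ := Ideal.Quotient.mk_surjective.comp Ideal.Quotient.mk_surjective
  have hkφ : RingHom.ker φ.toRingHom = K := by
    ext x
    change Ideal.Quotient.mk JS (π x) = 0 ↔ π x ∈ JS
    exact Ideal.Quotient.eq_zero_iff_mem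
  have : Algebra.Smooth P Q := ⟨inferInstance, inferInstance⟩
  have : Algebra.Smooth A Q := Algebra.Smooth.comp A P Q
  have hK : IsKoszulRegularIdeal K := hkφ ▸
    Groth.Agent.Dual.H366.SmoothLCI.isKoszulRegularIdeal_ker_of_smooth hL φ hφ
  have hKeq : K = J.map (MvPolynomial.C : P →+* Q) ⊔ Ideal.span (Set.range F) := by
    change Ideal.comap π (J.map (algebraMap P S)) = _
    have h1 : J.map (algebraMap P S) = (J.map (MvPolynomial.C : P →+* Q)).map π := by
      rw [Ideal.map_map]; rfl
    rw [h1, Ideal.comap_map_of_surjective π hπ]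
    exact congrArg _ ((RingHom.ker_eq_comap_bot π).symm.trans hkerπ)
  let ψ : Q →+* MvPolynomial (Fin n) (P ⧸ J) := MvPolynomial.map (Ideal.Quotient.mk J)
  have hψ : Function.Surjective ψ := MvPolynomial.map_surjective _ Ideal.Quotient.mk_surjective
  have hkψ : RingHom.ker ψ = J.map (MvPolynomial.C : P →+* Q) := by
    rw [MvPolynomial.ker_map, Ideal.mk_ker]
  have hF' : IsKoszulRegularSeq (MvPolynomial (Fin n) (P ⧸ J)) (List.ofFn fun i => ψ (F i)) :=
    isKoszulRegularSeq_of_isRelGCI (mapRel F (P ⧸ J)) (isRelGCI_baseChange F hF (P ⧸ J))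
  have hKψ : K.map ψ = Ideal.ofList (List.ofFn fun i => ψ (F i)) := by
    rw [hKeq, Ideal.map_sup, (Ideal.map_eq_bot_iff_le_ker ψ).2 hkψ.ge, bot_sup_eq, Ideal.map_span,
      K562.FieldCI.ofList_ofFn, ← Set.range_comp]
    rfl
  refine isKoszulRegularIdeal_of_comap π hπ F (isKoszulRegularSeq_of_isRelGCI F hF) ?_ hK ?_
  · rw [hkerπ, K562.FieldCI.ofList_ofFn]
  · intro q _ hKq s hs
    exact mem_of_sum_mem ψ hψ F hF' K hKψ (by rw [hkψ, hKeq]; exact le_sup_left) q hKq s hs

/-- Descent of Koszul-regularity along a flat map of finite presentation, pointwise. -/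
theorem exists_genK_of_flat {P S : Type u} [CommRing P] [CommRing S] [Algebra P S] [Module.Flat P S]
    [Algebra.FinitePresentation P S] (J : Ideal P) (hJ : IsKoszulRegularIdeal (J.map (algebraMap P S)))
    (r : Ideal S) [r.IsPrime] :
    ∃ g : P, g ∉ r.comap (algebraMap P S) ∧ GenK (J.map (algebraMap P (Localization.Away g))) := by
  have hopen : IsOpenMap (PrimeSpectrum.comap (algebraMap P S)) :=
    PrimeSpectrum.isOpenMap_comap_of_hasGoingDown_of_finitePresentation
  obtain ⟨_, ⟨t, rfl⟩, htr, ht⟩ := PrimeSpectrum.isTopologicalBasis_basic_opens.isOpen_iff.1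
    hopen.isOpen_range (PrimeSpectrum.comap (algebraMap P S) ⟨r, ‹_›⟩) ⟨_, rfl⟩
  have hff : Module.FaithfullyFlat (Localization.Away t) (Localization.Away t ⊗[P] S) :=
    faithfullyFlat_away t fun p hp => ht hp
  let Pt := Localization.Away t
  let St := Pt ⊗[P] S
  let := (Algebra.TensorProduct.includeRight : S →ₐ[P] St).toRingHom.toAlgebra
  have : Module.Flat S St := LCIMaps2.flat_includeRight P Pt S
  have h1 : IsKoszulRegularIdeal ((J.map (algebraMap P S)).map (algebraMap S St)) :=
    IsKoszulRegularIdeal.map hJ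
  have h2 : (J.map (algebraMap P S)).map (algebraMap S St) = (J.map (algebraMap P Pt)).map (algebraMap Pt St) := by
    rw [Ideal.map_map, Ideal.map_map]
    congr 1
    exact (Algebra.TensorProduct.includeRight : S →ₐ[P] St).comp_algebraMap
  rw [h2] at h1
  have h3 : IsKoszulRegularIdeal (J.map (algebraMap P Pt)) :=
    Groth.Agent.Flat2H.KoszulDescent.IsKoszulRegularIdeal.of_faithfullyFlat h1
  exact LCIPoint.exists_genK_localization t (r.comap (algebraMap P S)) htr h3

/-- Descent of Koszul-regularity from `S/JS` to `P/J`. -/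
theorem exists_genK_of_isRelGCI {A P : Type u} [CommRing A] [CommRing P] [Algebra A P] [Algebra.Smooth A P]
    (J : Ideal P) {n c : ℕ} (F : Fin c → MvPolynomial (Fin n) P) (hF : Synt.IsRelGCI P n c F)
    (hL : IsLCI A (Synt.RelGCIRing P n c F ⧸ J.map (algebraMap P (Synt.RelGCIRing P n c F))))
    (r : Ideal (Synt.RelGCIRing P n c F)) [r.IsPrime] :
    ∃ g : P, g ∉ r.comap (algebraMap P _) ∧ GenK (J.map (algebraMap P (Localization.Away g))) := by
  have hflat : Module.Flat P (Synt.RelGCIRing P n c F) := K562.RelReg.flat_relGCI F hF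
  have hfp : Algebra.FinitePresentation P (Synt.RelGCIRing P n c F) := K562.RelReg.finitePresentation_relGCI F
  exact exists_genK_of_flat J (isKoszulRegularIdeal_map J F hF hL) r

/-- **Descent of lci at a point.** `B` is a quotient of the polynomial ring `P` over `A`, the algebra `B'` over `B` is
near the prime `q'` isomorphic to `S/JS` for a relative global complete intersection `S` over `P`, `J` the kernel of
`P → B`. If `B'` is lci over `A` then `B` is lci over `A` near the image of `q'`. -/
theorem exists_isLCI_away {A B B' : Type u} [CommRing A] [CommRing B] [CommRing B'] [Algebra A B] [Algebra B B']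
    [Algebra A B'] [IsScalarTower A B B'] (hB' : IsLCI A B') {m : ℕ}
    (φ : MvPolynomial (Fin m) A →ₐ[A] B) (hφ : Function.Surjective φ)
    (q' : Ideal B') [q'.IsPrime] (a : B') (ha : a ∉ q') {n c : ℕ}
    (F : Fin c → MvPolynomial (Fin n) (MvPolynomial (Fin m) A))
    (hF : Synt.IsRelGCI (MvPolynomial (Fin m) A) n c F)
    (e : Localization.Away a ≃+* (Synt.RelGCIRing (MvPolynomial (Fin m) A) n c F ⧸
      (RingHom.ker φ.toRingHom).map (algebraMap _ (Synt.RelGCIRing (MvPolynomial (Fin m) A) n c F))))
    (he : ∀ x : MvPolynomial (Fin m) A, e (algebraMap B' _ (algebraMap B B' (φ x))) =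
      Ideal.Quotient.mk _ (algebraMap _ (Synt.RelGCIRing (MvPolynomial (Fin m) A) n c F) x)) :
    ∃ b : B, b ∉ q'.comap (algebraMap B B') ∧ IsLCI A (Localization.Away b) := by
  let P := MvPolynomial (Fin m) A
  let S := Synt.RelGCIRing P n c F
  let JS : Ideal S := (RingHom.ker φ.toRingHom).map (algebraMap P S)
  have hsm : Algebra.Smooth A P := ⟨inferInstance, inferInstance⟩
  have h1 : IsLCI A (Localization.Away a) := LCIMaps2.IsLCI.away_target (B := B') a hB'
  have h2 : IsLCI A (S ⧸ JS) := by
    refine LCIMaps2.isLocal_isLCI.of_equiv (RingEquiv.refl A) e ?_ h1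
    ext x
    have h3 := he (MvPolynomial.C x)
    have h4 : φ (MvPolynomial.C x) = algebraMap A B x := φ.commutes x
    rw [h4, ← IsScalarTower.algebraMap_apply A B B', ← IsScalarTower.algebraMap_apply A B'] at h3
    exact h3.symm
  have hd : Disjoint (Submonoid.powers a : Set B') (q' : Set B') := by
    rw [Set.disjoint_left]
    rintro _ ⟨n, rfl⟩ hn
    exact ha (Ideal.IsPrime.mem_of_pow_mem ‹_› n hn)
  have hq : (q'.map (algebraMap B' (Localization.Away a))).IsPrime :=
    IsLocalization.isPrime_of_isPrime_disjoint (Submonoid.powers a) _ q' ‹_› hd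
  let θ : S →+* Localization.Away a := (e.symm : _ →+* _).comp (Ideal.Quotient.mk JS)
  let r : Ideal S := (q'.map (algebraMap B' (Localization.Away a))).comap θ
  have hr : r.comap (algebraMap P S) = (q'.comap (algebraMap B B')).comap φ.toRingHom := by
    have h5 : θ.comp (algebraMap P S) = ((algebraMap B' (Localization.Away a)).comp (algebraMap B B')).comp
        φ.toRingHom := by
      apply RingHom.ext
      intro x
      change e.symm (Ideal.Quotient.mk JS (algebraMap P S x)) = algebraMap B' _ (algebraMap B B' (φ x))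
      rw [← he x, e.symm_apply_apply]
    rw [Ideal.comap_comap, h5, ← Ideal.comap_comap, ← Ideal.comap_comap]
    have h6 : (q'.map (algebraMap B' (Localization.Away a))).comap (algebraMap B' (Localization.Away a)) = q' :=
      IsLocalization.under_map_of_isPrime_disjoint (Submonoid.powers a) (Localization.Away a) ‹_› hd
    rw [h6]
  obtain ⟨g, hg, hG⟩ := exists_genK_of_isRelGCI (A := A) (RingHom.ker φ.toRingHom) F hF h2 r
  exact (LCIPoint.exists_isLCI_away_iff φ hφ (q'.comap (algebraMap B B'))).2 ⟨g, hr ▸ hg, hG⟩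

end K257.SynDesc
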