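import Groth.Agent.FlatMor.K257.SynDesc
import Groth.Agent.Synt.K562.LiftSyn
import Groth.Agent.Synt.K561.LciDict
import Groth.Agent.Synt.K563.SchDict

/-!
# The local complete intersection property is local on the source for the syntomic topology
-/

set_option autoImplicit false
universe u

open CategoryTheory CategoryTheory.Limits AlgebraicGeometry

namespace K257.SynDesc2

open LCI Groth.Agent.Flat2H Groth.Agent.Dual.H375.LciLocus

/-- Lifting a syntomic algebra, near a prime, along a surjection. -/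
theorem exists_lift {P B B' : Type u} [CommRing P] [CommRing B] [CommRing B'] [Algebra B B']
    (φ : P →+* B) (hφ : Function.Surjective φ) (hs : Synt.IsSyntomic B B') (q' : Ideal B') [hq' : q'.IsPrime] :
    ∃ a : B', a ∉ q' ∧ ∃ (n c : ℕ) (F : Fin c → MvPolynomial (Fin n) P), Synt.IsRelGCI P n c F ∧
      ∃ e : Localization.Away a ≃+* (Synt.RelGCIRing P n c F ⧸
        (RingHom.ker φ).map (algebraMap P (Synt.RelGCIRing P n c F))),
        ∀ x : P, e (algebraMap B' _ (algebraMap B B' (φ x))) =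
          Ideal.Quotient.mk _ (algebraMap _ (Synt.RelGCIRing P n c F) x) := by
  let e0 : (P ⧸ RingHom.ker φ) ≃+* B := RingHom.quotientKerEquivOfSurjective (f := φ) hφ
  have he0 (x : P) : e0 (Ideal.Quotient.mk (RingHom.ker φ) x) = φ x := rfl
  let := (e0 : (P ⧸ RingHom.ker φ) →+* B).toAlgebra
  let := ((algebraMap B B').comp (e0 : (P ⧸ RingHom.ker φ) →+* B)).toAlgebra
  let := ((algebraMap B B').comp φ).toAlgebra
  have t1 : IsScalarTower (P ⧸ RingHom.ker φ) B B' := IsScalarTower.of_algebraMap_eq' rfl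
  have t2 : IsScalarTower P (P ⧸ RingHom.ker φ) B' := IsScalarTower.of_algebraMap_eq' rfl
  have f1 : Module.Flat (P ⧸ RingHom.ker φ) B := by
    let e1 : (P ⧸ RingHom.ker φ) ≃ₗ[P ⧸ RingHom.ker φ] B :=
      { toFun := e0
        invFun := e0.symm
        left_inv := e0.left_inv
        right_inv := e0.right_inv
        map_add' := map_add e0
        map_smul' := fun a x => by
          rw [smul_eq_mul, map_mul, RingHom.id_apply, Algebra.smul_def]; rfl }
    exact Module.Flat.of_linearEquiv e1.symm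
  have hs2 := K561.SynLci.isSyntomic_iff_isLCI.1 hs
  have hs3 : Synt.IsSyntomic (P ⧸ RingHom.ker φ) B' := by
    rw [K561.SynLci.isSyntomic_iff_isLCI]
    have := hs2.1
    refine ⟨Module.Flat.trans (P ⧸ RingHom.ker φ) B B', ?_⟩
    refine LCIMaps2.isLocal_isLCI.of_equiv e0.symm (RingEquiv.refl B') ?_ hs2.2
    ext x
    change algebraMap B B' (e0 (e0.symm x)) = algebraMap B B' x
    rw [e0.apply_symm_apply]
  obtain ⟨s, hsp, hcov⟩ := K562.LiftSyn.exists_cover (RingHom.ker φ) B' hs3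
  obtain ⟨a, has, haq⟩ : ∃ a ∈ s, a ∉ q' := by
    by_contra! H
    refine hq'.ne_top (top_le_iff.1 ?_)
    rw [← hsp, Ideal.span_le]
    exact fun a ha => H a ha
  obtain ⟨n, c, F, hF, ⟨e⟩⟩ := hcov a has
  exact ⟨a, haq, n, c, F, hF, e.toRingEquiv, fun x => e.commutes x⟩

/-- **Descent of lci along syntomic ring maps, pointwise.** -/
theorem exists_isLCI_away {A B B' : Type u} [CommRing A] [CommRing B] [CommRing B'] [Algebra A B] [Algebra B B']
    [Algebra A B'] [IsScalarTower A B B'] (hft : Algebra.FiniteType A B) (hs : Synt.IsSyntomic B B')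
    (h : IsLCI A B') (q' : Ideal B') [hq' : q'.IsPrime] :
    ∃ b : B, b ∉ q'.comap (algebraMap B B') ∧ IsLCI A (Localization.Away b) := by
  obtain ⟨m, φ, hφ⟩ := Algebra.FiniteType.iff_quotient_mvPolynomial''.1 hft
  obtain ⟨a, haq, n, c, F, hF, e, he⟩ := exists_lift φ.toRingHom hφ hs q'
  exact K257.SynDesc.exists_isLCI_away h φ hφ q' a haq F hF e he

variable {X' X Y : Scheme.{u}}

theorem LM_of_isSyntomicMor {g : X' ⟶ X} (hg : Synt.IsSyntomicMor g) : LM g := by
  rw [K561.LciDict.LM_iff_exists]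
  intro x
  obtain ⟨U, V, e, hx, h⟩ := hg x
  refine ⟨V, U, hx, e, ?_⟩
  let := (g.appLE V.1 U.1 e).hom.toAlgebra
  exact (K561.SynLci.isSyntomic_iff_isLCI.1 h).2

/-- **Descent of lci along surjective syntomic morphisms on the source.** -/
theorem LM_of_comp (g : X' ⟶ X) (hg : Synt.IsSyntomicMor g) [Surjective g] (f : X ⟶ Y)
    [LocallyOfFiniteType f] (h : LM (g ≫ f)) : LM f := by
  rw [K561.LciDict.LM_iff_exists]
  intro x
  obtain ⟨x', rfl⟩ := g.surjective x
  obtain ⟨V, hV, hxV, -⟩ := exists_isAffineOpen_mem_and_subset (x := f (g x')) (U := ⊤) trivial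
  obtain ⟨W, hW, hxW, hWV⟩ := exists_isAffineOpen_mem_and_subset (x := g x') (U := f ⁻¹ᵁ V) hxV
  obtain ⟨U, hU, hxU, hUW⟩ := exists_isAffineOpen_mem_and_subset (x := x') (U := g ⁻¹ᵁ W) hxW
  have hWV' : W ≤ f ⁻¹ᵁ V := hWV
  have hUW' : U ≤ g ⁻¹ᵁ W := hUW
  have hUV' : U ≤ (g ≫ f) ⁻¹ᵁ V := hUW'.trans (g.preimage_mono hWV')
  let a1 : Algebra Γ(Y, V) Γ(X, W) := (f.appLE V W hWV').hom.toAlgebra
  let a2 : Algebra Γ(X, W) Γ(X', U) := (g.appLE W U hUW').hom.toAlgebra
  let a3 : Algebra Γ(Y, V) Γ(X', U) := ((g ≫ f).appLE V U hUV').hom.toAlgebra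
  have t : IsScalarTower Γ(Y, V) Γ(X, W) Γ(X', U) := IsScalarTower.of_algebraMap_eq' (by
    change ((g ≫ f).appLE V U hUV').hom = (f.appLE V W hWV' ≫ g.appLE W U hUW').hom
    rw [Scheme.Hom.appLE_comp_appLE])
  have hft : Algebra.FiniteType Γ(Y, V) Γ(X, W) :=
    HasRingHomProperty.appLE (P := @LocallyOfFiniteType) f inferInstance ⟨V, hV⟩ ⟨W, hW⟩ hWV'
  have hs : Synt.IsSyntomic Γ(X, W) Γ(X', U) :=
    K563.SchDict.isSyntomic_appLE_of_isSyntomicMor g hg ⟨U, hU⟩ ⟨W, hW⟩ hUW'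
  have hl : IsLCI Γ(Y, V) Γ(X', U) := h U V hU hV hUV'
  obtain ⟨b, hb, hL⟩ := exists_isLCI_away hft hs hl (hU.primeIdealOf ⟨x', hxU⟩).asIdeal
  have hb' : g x' ∈ X.basicOpen b := by
    have h1 : g.appLE W U hUW' b ∉ (hU.primeIdealOf ⟨x', hxU⟩).asIdeal := hb
    rw [K561.RegImmDict.notMem_primeIdealOf_iff, Scheme.basicOpen_appLE] at h1
    exact h1.2
  obtain ⟨U', V', hU', hV', e', hx', hP⟩ := (LCIMaps2.isLocal_isLCI.exists_affine_iff f hW hV hWV'
    (g x') hxW).2 ⟨b, hb', hL⟩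
  exact ⟨⟨V', hV'⟩, ⟨U', hU'⟩, hx', e', hP⟩

end K257.SynDesc2
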